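import Mathlib
import Cfsg.Agent.Classification.GWDefs
import Cfsg.Agent.Classification.TypeB.Core

/-!
# Solvable groups with dihedral Sylow 2-subgroups

Facts on solvable `SubDihedral` groups used for the `N`-group case of the Gorenstein–Walter theorem.
-/

set_option autoImplicit false

namespace Cfsg.Agent.Classification.GWSolvable.Core

open Subgroup Cfsg
open Cfsg.Agent.Classification.TypeB.Basic Cfsg.Agent.Classification.TypeB.Core
open Cfsg.Agent.OddOrderLocal Cfsg.Agent.OddOrderLocal.PiCoreOf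
open Cfsg.Agent.Classification.DihedralCentral Cfsg.Agent.Classification.TransferSign
open Cfsg.Agent.Classification.DihReduction Cfsg.Agent.Classification.DihStructure
open Cfsg.Agent.Classification.DihMinimal

universe u

/-- `O(H)` as a subgroup of `G`. -/
theorem oc_eq_map {G : Type*} [Group G] [Finite G] (H : Subgroup G) :
    oc H = (oddCore H).map H.subtype := by
  have h1 : piCore (primesNotDvd 2) H = oddCore H := by
    apply le_antisymm
    · apply Cfsg.Agent.Lib.Cores.le_pPrimeCore inferInstance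
      exact coprime_of_isPi_primesNotDvd (piCore_isPi _)
    · apply le_piCore (Cfsg.Agent.Lib.Cores.pPrimeCore_normal 2)
      rw [isPi_primesNotDvd_iff]
      exact Cfsg.Agent.Lib.Cores.pPrimeCore_coprime 2
  rw [oc_def]
  show (piCore (primesNotDvd 2) H).map H.subtype = _
  rw [h1]

theorem mk_mem_oddCore_iff {G : Type*} [Group G] [Finite G] {H : Subgroup G} {y : G}
    (hy : y ∈ H) : (⟨y, hy⟩ : H) ∈ oddCore H ↔ y ∈ oc H := by
  rw [oc_eq_map]
  constructor
  · intro h
    exact ⟨⟨y, hy⟩, h, rfl⟩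
  · rintro ⟨z, hz, hzy⟩
    have : z = ⟨y, hy⟩ := Subtype.ext hzy
    rwa [← this]

section klein

variable {Y : Type*} [Group Y]

theorem klein_cases {V : Subgroup Y} (hV : IsKleinFour V) {v w x : Y} (hv : v ∈ V) (hw : w ∈ V)
    (hx : x ∈ V) (hv1 : v ≠ 1) (hw1 : w ≠ 1) (hvw : v ≠ w) : x = 1 ∨ x = v ∨ x = w ∨ x = v * w := by
  by_cases h1 : x = 1
  · exact Or.inl h1
  by_cases h2 : x = v
  · exact Or.inr (Or.inl h2)
  by_cases h3 : x = w
  · exact Or.inr (Or.inr (Or.inl h3))
  right; right; right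
  have := IsKleinFour.eq_mul_of_ne_all (G := V) (x := ⟨v, hv⟩) (y := ⟨w, hw⟩) (z := ⟨x, hx⟩)
    (fun h => hv1 (congrArg Subtype.val h)) (fun h => hw1 (congrArg Subtype.val h))
    (fun h => hvw (congrArg Subtype.val h)) (fun h => h1 (congrArg Subtype.val h))
    (fun h => h2 (congrArg Subtype.val h)) (fun h => h3 (congrArg Subtype.val h))
  exact congrArg Subtype.val this

theorem klein_sq {V : Subgroup Y} (hV : IsKleinFour V) {v : Y} (hv : v ∈ V) : v * v = 1 := by
  have h := IsKleinFour.mul_self (⟨v, hv⟩ : V)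
  exact congrArg Subtype.val h

theorem klein_comm {V : Subgroup Y} (hV : IsKleinFour V) {v w : Y} (hv : v ∈ V) (hw : w ∈ V) :
    v * w = w * v := by
  have h1 := klein_sq hV (V.mul_mem hv hw)
  have h2 := klein_sq hV hv
  have h3 := klein_sq hV hw
  have e1 : v⁻¹ = v := inv_eq_of_mul_eq_one_left h2
  have e2 : w⁻¹ = w := inv_eq_of_mul_eq_one_left h3
  calc v * w = (v * w)⁻¹ := (inv_eq_of_mul_eq_one_left h1).symm
    _ = w⁻¹ * v⁻¹ := mul_inv_rev _ _
    _ = w * v := by rw [e1, e2]

theorem exists_klein_ne {V : Subgroup Y} (hV : IsKleinFour V) (v : Y) :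
    ∃ w ∈ V, w ≠ 1 ∧ w ≠ v := by
  by_contra h
  push Not at h
  have h4 : Nat.card V = 4 := hV.card_four
  have hle : (V : Set Y) ⊆ {1, v} := by
    intro x hx
    by_cases h1 : x = 1
    · simp [h1]
    · simp [h x hx h1]
  have h2 := Set.ncard_le_ncard hle (Set.toFinite _)
  have h3 : ({1, v} : Set Y).ncard ≤ 2 := by
    exact (Set.ncard_insert_le _ _).trans (by rw [Set.ncard_singleton])
  have h5 : (V : Set Y).ncard = 4 := by rw [← h4]; rfl
  omega

/-- an element of odd order `≠ 1` acts without fixed points on a self-centralising normal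
four-group -/
theorem fpf_of_odd {V : Subgroup Y} [V.Normal] (hV : IsKleinFour V)
    (hC : centralizer (V : Set Y) = V) {y : Y} (hy : Odd (orderOf y)) (hy1 : y ≠ 1) {v : Y}
    (hv : v ∈ V) (hv1 : v ≠ 1) : y * v ≠ v * y := by
  intro hyv
  obtain ⟨w, hw, hw1, hwv⟩ := exists_klein_ne hV v
  have hn : y * w * y⁻¹ ∈ V := Normal.conj_mem inferInstance w hw y
  have key : ∀ z : Y, z * v = v * z → z * w = w * z → z ∈ V := by
    intro z hzv hzw
    rw [← hC, mem_centralizer_iff]
    intro x hx
    rcases klein_cases hV hv hw hx hv1 hw1 (Ne.symm hwv) with h | h | h | h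
    · rw [h]; simp
    · rw [h]; exact hzv.symm
    · rw [h]; exact hzw.symm
    · rw [h, mul_assoc, ← hzw, ← mul_assoc, ← hzv, mul_assoc]
  have odd_one : ∀ z : Y, Odd (orderOf z) → z * z = 1 → z = 1 := by
    intro z hz hzz
    have h1 : orderOf z ∣ 2 := orderOf_dvd_of_pow_eq_one (by rw [pow_two]; exact hzz)
    rcases (Nat.dvd_prime Nat.prime_two).1 h1 with h2 | h2
    · exact orderOf_eq_one_iff.1 h2
    · rw [h2] at hz; exact absurd hz (by decide)
  rcases klein_cases hV hv hw hn hv1 hw1 (Ne.symm hwv) with h | h | h | h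
  · apply hw1
    have : w = y⁻¹ * (y * w * y⁻¹) * y := by group
    rw [this, h]; group
  · apply hwv
    have : w = y⁻¹ * (y * w * y⁻¹) * y := by group
    rw [this, h]
    calc y⁻¹ * v * y = y⁻¹ * (v * y) := by group
      _ = y⁻¹ * (y * v) := by rw [hyv]
      _ = v := by group
  · have h1 : y * w = w * y := by rw [mul_inv_eq_iff_eq_mul] at h; exact h
    exact hy1 (odd_one y hy (klein_sq hV (key y hyv h1)))
  · -- `y²` centralises `V`
    have h1 : y * w = v * w * y := by rw [mul_inv_eq_iff_eq_mul] at h; exact h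
    have h2 : (y * y) * v = v * (y * y) := by
      rw [mul_assoc, hyv, ← mul_assoc, hyv, mul_assoc]
    have h3 : (y * y) * w = w * (y * y) := by
      calc (y * y) * w = y * (y * w) := by group
        _ = y * (v * w * y) := by rw [h1]
        _ = (y * v) * w * y := by group
        _ = (v * y) * w * y := by rw [hyv]
        _ = v * (y * w) * y := by group
        _ = v * (v * w * y) * y := by rw [h1]
        _ = (v * v) * w * (y * y) := by group
        _ = w * (y * y) := by rw [klein_sq hV hv, one_mul]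
    have h4 := klein_sq hV (key _ h2 h3)
    have h5 : y * y = 1 := by
      apply odd_one _ _ h4
      rw [← pow_two]
      exact hy.of_dvd_nat (orderOf_pow_dvd 2)
    exact hy1 (odd_one y hy h5)

end klein

section solvable

variable {H : Type u} [Group H] [Finite H]

/-- The structure of `H / O(H)` for a solvable `SubDihedral` group `H`. -/
theorem solvable_structure (hFT : OddOrder.{u}) (hH : SubDihedral H) (hs : Group.IsSolvable H) :
    IsPGroup 2 (H ⧸ oddCore H) ∨
    ∃ V : Subgroup (H ⧸ oddCore H), V.Normal ∧ IsKleinFour V ∧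
      centralizer (V : Set (H ⧸ oddCore H)) = V ∧ (V.index = 3 ∨ V.index = 6) := by
  have hY : SubDihedral (H ⧸ oddCore H) := subDihedral_quotient hH _ (odd_card_oddCore H)
  have hO : oddCore (H ⧸ oddCore H) = ⊥ := Cfsg.Agent.Lib.Cores.pPrimeCore_quotient_pPrimeCore 2
  rcases structure_of_core_free hFT hY hO with h | h | ⟨L, h1, h2, h3, h4, S, k, hk, hS⟩
  · exact Or.inl h
  · exact Or.inr h
  · exfalso
    have h5 : Group.IsSolvable (H ⧸ oddCore H) := inferInstance
    have h6 : Group.IsSolvable L := inferInstance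
    have h7 : ∀ a b : L, a * b = b * a := IsSimpleGroup.comm_iff_isSolvable.2 h6
    obtain ⟨e⟩ := hS
    -- `L` is abelian, so centralises itself
    have h8 : L ≤ centralizer (L : Set (H ⧸ oddCore H)) := by
      intro x hx
      rw [mem_centralizer_iff]
      intro y hy
      exact congrArg Subtype.val (h7 ⟨y, hy⟩ ⟨x, hx⟩)
    rw [h3, le_bot_iff] at h8
    obtain ⟨x, y, hxy⟩ := h2.exists_pair_ne
    apply hxy
    have hx : (x : H ⧸ oddCore H) ∈ (⊥ : Subgroup (H ⧸ oddCore H)) := h8 ▸ x.2
    have hy : (y : H ⧸ oddCore H) ∈ (⊥ : Subgroup (H ⧸ oddCore H)) := h8 ▸ y.2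
    apply Subtype.ext
    rw [mem_bot.1 hx, mem_bot.1 hy]

theorem mk_ne_one_of_inv {u : H} (hu : IsInv u) : (QuotientGroup.mk u : H ⧸ oddCore H) ≠ 1 := by
  intro h
  rw [QuotientGroup.eq_one_iff] at h
  have h1 := eq_one_of_sq (odd_card_oddCore H) h hu.1
  exact hu.2 h1

theorem isInv_mk {u : H} (hu : IsInv u) : IsInv (QuotientGroup.mk u : H ⧸ oddCore H) :=
  ⟨by rw [← QuotientGroup.mk_mul, hu.1]; rfl, mk_ne_one_of_inv hu⟩

theorem odd_orderOf_mk {y : H} (hy : Odd (orderOf y)) :
    Odd (orderOf (QuotientGroup.mk y : H ⧸ oddCore H)) :=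
  hy.of_dvd_nat (orderOf_map_dvd (QuotientGroup.mk' (oddCore H)) y)

/-- Elements of odd order commuting with an involution lie in `O(H)`, for solvable `H`. -/
theorem mem_oddCore_of_commute (hFT : OddOrder.{u}) (hH : SubDihedral H)
    (hs : Group.IsSolvable H) {u y : H} (hu : IsInv u) (hyu : y * u = u * y)
    (hy : Odd (orderOf y)) : y ∈ oddCore H := by
  rw [← QuotientGroup.eq_one_iff]
  set y' : H ⧸ oddCore H := QuotientGroup.mk y with hy'
  set u' : H ⧸ oddCore H := QuotientGroup.mk u with hu'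
  have hyo : Odd (orderOf y') := odd_orderOf_mk hy
  have hui : IsInv u' := isInv_mk hu
  have hcomm : y' * u' = u' * y' := by
    rw [hy', hu', ← QuotientGroup.mk_mul, hyu, QuotientGroup.mk_mul]
  rcases solvable_structure hFT hH hs with h | ⟨V, hVn, hV, hC, -⟩
  · obtain ⟨k, hk⟩ := h y'
    have h1 : orderOf y' ∣ 2 ^ k := orderOf_dvd_of_pow_eq_one hk
    have h2 : Nat.Coprime (orderOf y') (2 ^ k) := Nat.Coprime.pow_right k
      (Nat.coprime_two_right.2 hyo)
    rw [← orderOf_eq_one_iff, ← Nat.dvd_one, ← h2.gcd_eq_one]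
    exact Nat.dvd_gcd dvd_rfl h1
  · by_contra hy1
    by_cases huV : u' ∈ V
    · exact fpf_of_odd hV hC hyo hy1 huV hui.2 hcomm
    · -- a nontrivial fixed point of `u'` in `V`
      obtain ⟨v, hv, hv1, hvu⟩ : ∃ v ∈ V, v ≠ 1 ∧ u' * v = v * u' := by
        obtain ⟨w, hw, hw1, -⟩ := exists_klein_ne hV 1
        have hn : u' * w * u'⁻¹ ∈ V := Normal.conj_mem inferInstance w hw u'
        by_cases h1 : w * (u' * w * u'⁻¹) = 1
        · refine ⟨w, hw, hw1, ?_⟩
          have h2 : u' * w * u'⁻¹ = w := by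
            have := klein_sq hV hw
            exact mul_left_cancel (h1.trans this.symm)
          rw [mul_inv_eq_iff_eq_mul] at h2
          exact h2
        · refine ⟨_, V.mul_mem hw hn, h1, ?_⟩
          rw [klein_comm hV hw hn]
          calc u' * (u' * w * u'⁻¹ * w) = (u' * u') * w * u'⁻¹ * w := by group
            _ = w * u'⁻¹ * w := by rw [hui.1, one_mul]
            _ = w * u' * w := by rw [hui.inv_eq]
            _ = w * (u' * w * u'⁻¹) * u' := by group
            _ = u' * w * u'⁻¹ * w * u' := by rw [klein_comm hV hw hn]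
      set w := y' * v * y'⁻¹ with hw
      have hwV : w ∈ V := Normal.conj_mem inferInstance v hv y'
      have hwv : w ≠ v := by
        intro h
        apply fpf_of_odd hV hC hyo hy1 hv hv1
        rw [hw, mul_inv_eq_iff_eq_mul] at h
        exact h
      have hw1 : w ≠ 1 := by
        intro h
        rw [hw, mul_inv_eq_iff_eq_mul, one_mul] at h
        exact hv1 (mul_left_cancel (h.trans (mul_one _).symm))
      have hwu : u' * w = w * u' := by
        rw [hw]
        calc u' * (y' * v * y'⁻¹) = (u' * y') * v * y'⁻¹ := by group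
          _ = (y' * u') * v * y'⁻¹ := by rw [hcomm]
          _ = y' * (u' * v) * y'⁻¹ := by group
          _ = y' * (v * u') * y'⁻¹ := by rw [hvu]
          _ = y' * v * (u' * y'⁻¹) := by group
          _ = y' * v * (y'⁻¹ * u') := by
              have : u' * y'⁻¹ = y'⁻¹ * u' := by
                rw [eq_inv_mul_iff_mul_eq, ← mul_assoc, hcomm]; group
              rw [this]
          _ = y' * v * y'⁻¹ * u' := by group
      apply huV
      rw [← hC, mem_centralizer_iff]
      intro x hx
      rcases klein_cases hV hv hwV hx hv1 hw1 (Ne.symm hwv) with h | h | h | h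
      · rw [h]; simp
      · rw [h]; exact hvu.symm
      · rw [h]; exact hwu.symm
      · rw [h, mul_assoc, ← hwu, ← mul_assoc, ← hvu, mul_assoc]

end solvable

section klein2

variable {Y : Type*} [Group Y]

theorem mem_of_fix_two {V : Subgroup Y} (hV : IsKleinFour V)
    (hC : centralizer (V : Set Y) = V) {z v w : Y} (hv : v ∈ V) (hw : w ∈ V) (hv1 : v ≠ 1)
    (hw1 : w ≠ 1) (hvw : v ≠ w) (hzv : z * v = v * z) (hzw : z * w = w * z) : z ∈ V := by
  rw [← hC, mem_centralizer_iff]
  intro x hx
  rcases klein_cases hV hv hw hx hv1 hw1 hvw with h | h | h | h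
  · rw [h]; simp
  · rw [h]; exact hzv.symm
  · rw [h]; exact hzw.symm
  · rw [h, mul_assoc, ← hzw, ← mul_assoc, ← hzv, mul_assoc]

theorem exists_fixed {V : Subgroup Y} [V.Normal] (hV : IsKleinFour V) {u : Y} (hu : u * u = 1) :
    ∃ v ∈ V, v ≠ 1 ∧ u * v = v * u := by
  have hui : u⁻¹ = u := inv_eq_of_mul_eq_one_left hu
  obtain ⟨w, hw, hw1, -⟩ := exists_klein_ne hV 1
  have hn : u * w * u⁻¹ ∈ V := Normal.conj_mem inferInstance w hw u
  by_cases h1 : w * (u * w * u⁻¹) = 1
  · refine ⟨w, hw, hw1, ?_⟩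
    have h2 : u * w * u⁻¹ = w := by
      have := klein_sq hV hw
      exact mul_left_cancel (h1.trans this.symm)
    rw [mul_inv_eq_iff_eq_mul] at h2
    exact h2
  · refine ⟨_, V.mul_mem hw hn, h1, ?_⟩
    rw [klein_comm hV hw hn]
    calc u * (u * w * u⁻¹ * w) = (u * u) * w * u⁻¹ * w := by group
      _ = w * u⁻¹ * w := by rw [hu, one_mul]
      _ = w * u * w := by rw [hui]
      _ = w * (u * w * u⁻¹) * u := by group
      _ = u * w * u⁻¹ * w * u := by rw [klein_comm hV hw hn]

theorem mem_klein_of_fused {V : Subgroup Y} [hVn : V.Normal] (hV : IsKleinFour V)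
    (hC : centralizer (V : Set Y) = V) {t u k : Y} (ht : t * t = 1)
    (htu : t * u = u * t) (h1 : k * t * k⁻¹ = u) (h2 : k * u * k⁻¹ = t * u) :
    t ∈ V ∧ u ∈ V := by
  have hconj : ∀ x : Y, x ∈ V ↔ k * x * k⁻¹ ∈ V := fun x => by
    constructor
    · intro hx; exact hVn.conj_mem x hx k
    · intro hx
      have := hVn.conj_mem _ hx k⁻¹
      have h3 : k⁻¹ * (k * x * k⁻¹) * k⁻¹⁻¹ = x := by group
      rwa [h3] at this
  suffices htV : t ∈ V by
    refine ⟨htV, ?_⟩
    have := (hconj t).1 htV
    rwa [h1] at this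
  by_contra htV
  have huV : u ∉ V := fun h => htV (by rw [hconj t, h1]; exact h)
  have htuV : t * u ∉ V := fun h => huV (by rw [hconj u, h2]; exact h)
  obtain ⟨v, hv, hv1, hvt⟩ := exists_fixed hV ht
  have hvu : u * v = v * u := by
    set v' := u * v * u⁻¹ with hv'
    have hv'V : v' ∈ V := hVn.conj_mem v hv u
    have hv'1 : v' ≠ 1 := by
      intro h
      rw [hv', mul_inv_eq_iff_eq_mul, one_mul] at h
      exact hv1 (mul_left_cancel (h.trans (mul_one _).symm))
    have hv't : t * v' = v' * t := by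
      rw [hv']
      calc t * (u * v * u⁻¹) = (t * u) * v * u⁻¹ := by group
        _ = (u * t) * v * u⁻¹ := by rw [htu]
        _ = u * (t * v) * u⁻¹ := by group
        _ = u * (v * t) * u⁻¹ := by rw [hvt]
        _ = u * v * (t * u⁻¹) := by group
        _ = u * v * (u⁻¹ * t) := by
            have : t * u⁻¹ = u⁻¹ * t := by
              rw [eq_inv_mul_iff_mul_eq, ← mul_assoc, ← htu]; group
            rw [this]
        _ = u * v * u⁻¹ * t := by group
    by_cases h : v = v'
    · have h3 : u * v * u⁻¹ = v := h.symm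
      rwa [mul_inv_eq_iff_eq_mul] at h3
    · exact absurd (mem_of_fix_two hV hC hv hv'V hv1 hv'1 h hvt hv't) htV
  obtain ⟨w, hw, hw1, hwv⟩ := exists_klein_ne hV v
  have key : ∀ z : Y, z ∉ V → z * v = v * z → z * w * z⁻¹ = v * w := by
    intro z hz hzv
    have hn : z * w * z⁻¹ ∈ V := hVn.conj_mem w hw z
    rcases klein_cases hV hv hw hn hv1 hw1 (Ne.symm hwv) with h | h | h | h
    · exfalso
      apply hw1
      have : w = z⁻¹ * (z * w * z⁻¹) * z := by group
      rw [this, h]; group
    · exfalso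
      apply hwv
      have : w = z⁻¹ * (z * w * z⁻¹) * z := by group
      rw [this, h]
      calc z⁻¹ * v * z = z⁻¹ * (v * z) := by group
        _ = z⁻¹ * (z * v) := by rw [hzv]
        _ = v := by group
    · exfalso
      rw [mul_inv_eq_iff_eq_mul] at h
      exact hz (mem_of_fix_two hV hC hv hw hv1 hw1 (Ne.symm hwv) hzv h)
    · exact h
  apply htuV
  apply mem_of_fix_two hV hC hv hw hv1 hw1 (Ne.symm hwv)
  · rw [mul_assoc, hvu, ← mul_assoc, hvt, mul_assoc]
  · have e1 := key u huV hvu
    have e2 := key t htV hvt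
    have e3 : t * u * w * (t * u)⁻¹ = w := by
      calc t * u * w * (t * u)⁻¹ = t * (u * w * u⁻¹) * t⁻¹ := by group
        _ = t * (v * w) * t⁻¹ := by rw [e1]
        _ = (t * v) * w * t⁻¹ := by group
        _ = (v * t) * w * t⁻¹ := by rw [hvt]
        _ = v * (t * w * t⁻¹) := by group
        _ = v * (v * w) := by rw [e2]
        _ = (v * v) * w := by group
        _ = w := by rw [klein_sq hV hv, one_mul]
    rwa [mul_inv_eq_iff_eq_mul] at e3

/-- in a 2-group no commuting pair is permuted cyclically -/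
theorem not_fused_of_isPGroup [Finite Y] (hp : IsPGroup 2 Y) {t u k : Y} (hne : t ≠ u)
    (hu : u * u = 1) (htu : t * u = u * t) (h1 : k * t * k⁻¹ = u) (h2 : k * u * k⁻¹ = t * u) :
    False := by
  have h3 : k * (t * u) * k⁻¹ = t := by
    calc k * (t * u) * k⁻¹ = (k * t * k⁻¹) * (k * u * k⁻¹) := by group
      _ = u * (t * u) := by rw [h1, h2]
      _ = (t * u) * u := by rw [← mul_assoc, ← htu]
      _ = t := by rw [mul_assoc, hu, mul_one]
  have h4 : k ^ 3 * t * (k ^ 3)⁻¹ = t := by
    calc k ^ 3 * t * (k ^ 3)⁻¹ = k * (k * (k * t * k⁻¹) * k⁻¹) * k⁻¹ := by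
          rw [pow_succ, pow_two]; simp only [mul_inv_rev, mul_assoc]
      _ = t := by rw [h1, h2, h3]
  have h5 : Commute (k ^ 3) t := by
    rw [mul_inv_eq_iff_eq_mul] at h4
    exact h4
  obtain ⟨m, hm⟩ := hp k
  have h6 : Nat.Coprime 3 (orderOf k) := by
    apply Nat.Coprime.coprime_dvd_right (orderOf_dvd_of_pow_eq_one hm)
    exact Nat.Coprime.pow_right m (by norm_num)
  obtain ⟨n, hn⟩ := exists_pow_eq_self_of_coprime h6
  have h7 : Commute k t := by
    rw [← hn]
    exact h5.pow_left n
  apply hne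
  rw [← h1, h7.eq]; group

end klein2

section solvable2

variable {H : Type u} [Group H] [Finite H]

/-- The image of a fused four-group in `H / O(H)`. -/
theorem fused_klein (hFT : OddOrder.{u}) (hH : SubDihedral H) (hs : Group.IsSolvable H)
    {t u k : H} (ht : IsInv t) (hu : IsInv u) (htu : t * u = u * t) (hne : t ≠ u)
    (h1 : k * t * k⁻¹ = u) (h2 : k * u * k⁻¹ = t * u) :
    ∃ V : Subgroup (H ⧸ oddCore H), V.Normal ∧ IsKleinFour V ∧
      centralizer (V : Set (H ⧸ oddCore H)) = V ∧ (V.index = 3 ∨ V.index = 6) ∧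
      (QuotientGroup.mk t : H ⧸ oddCore H) ∈ V ∧ (QuotientGroup.mk u : H ⧸ oddCore H) ∈ V := by
  set q : H →* H ⧸ oddCore H := QuotientGroup.mk' (oddCore H) with hq
  have e1 : q k * q t * (q k)⁻¹ = q u := by rw [← map_mul, ← map_inv, ← map_mul, h1]
  have e2 : q k * q u * (q k)⁻¹ = q t * q u := by
    rw [← map_mul, ← map_inv, ← map_mul, h2, map_mul]
  have e3 : q t * q u = q u * q t := by rw [← map_mul, htu, map_mul]
  have ht' : IsInv (q t) := isInv_mk ht
  have hu' : IsInv (q u) := isInv_mk hu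
  rcases solvable_structure hFT hH hs with h | ⟨V, hVn, hV, hC, hi⟩
  · exfalso
    refine not_fused_of_isPGroup h (t := q t) (u := q u) (k := q k) ?_ hu'.1 e3 e1 e2
    intro h3
    have h4 : IsInv (t * u) := ht.mul hu htu hne
    apply (isInv_mk h4).2
    show q (t * u) = 1
    rw [map_mul, h3]
    exact hu'.1
  · obtain ⟨h3, h4⟩ := mem_klein_of_fused hV hC ht'.1 e3 e1 e2
    exact ⟨V, hVn, hV, hC, hi, h3, h4⟩

/-- Conjugates of a fused four-group. -/
theorem fused_conj (hFT : OddOrder.{u}) (hH : SubDihedral H) (hs : Group.IsSolvable H)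
    {t u k : H} (ht : IsInv t) (hu : IsInv u) (htu : t * u = u * t) (hne : t ≠ u)
    (h1 : k * t * k⁻¹ = u) (h2 : k * u * k⁻¹ = t * u) (g : H) :
    ∃ v, (v = t ∨ v = u ∨ v = t * u) ∧ v⁻¹ * (g * t * g⁻¹) ∈ oddCore H := by
  obtain ⟨V, hVn, hV, hC, -, htV, huV⟩ := fused_klein hFT hH hs ht hu htu hne h1 h2
  set q : H →* H ⧸ oddCore H := QuotientGroup.mk' (oddCore H) with hq
  have ht' : IsInv (q t) := isInv_mk ht
  have hu' : IsInv (q u) := isInv_mk hu
  have htu' : q t ≠ q u := by
    intro h3
    have h4 : IsInv (t * u) := ht.mul hu htu hne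
    apply (isInv_mk h4).2
    show q (t * u) = 1
    rw [map_mul, h3]
    exact hu'.1
  have hn : q (g * t * g⁻¹) ∈ V := by
    rw [map_mul, map_mul, map_inv]
    exact hVn.conj_mem _ htV _
  have hmem : ∀ v : H, q (g * t * g⁻¹) = q v → v⁻¹ * (g * t * g⁻¹) ∈ oddCore H := by
    intro v hv
    exact (QuotientGroup.eq (s := oddCore H)).1 hv.symm
  rcases klein_cases hV htV huV hn ht'.2 hu'.2 htu' with h | h | h | h
  · exfalso
    rw [map_mul, map_mul, map_inv, mul_inv_eq_iff_eq_mul, one_mul] at h
    exact ht'.2 (mul_left_cancel (h.trans (mul_one _).symm))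
  · exact ⟨t, Or.inl rfl, hmem _ h⟩
  · exact ⟨u, Or.inr (Or.inl rfl), hmem _ h⟩
  · exact ⟨t * u, Or.inr (Or.inr rfl), hmem _ (by rw [h, map_mul]; rfl)⟩

/-- If `t` centralises `O(H)` and is central in a Sylow 2-subgroup, then it is central in `H` or
lies in a fused four-group. -/
theorem central_or_fused (hFT : OddOrder.{u}) (hH : SubDihedral H) (hs : Group.IsSolvable H)
    {t : H} (ht : IsInv t) (hO : ∀ y ∈ oddCore H, y * t = t * y) (P : Sylow 2 H)
    (hP : ∀ x ∈ (P : Subgroup H), x * t = t * x) :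
    (∀ g : H, g * t = t * g) ∨
      ∃ u k : H, IsInv u ∧ t * u = u * t ∧ u ≠ t ∧ k * t * k⁻¹ = u ∧ k * u * k⁻¹ = t * u := by
  set q : H →* H ⧸ oddCore H := QuotientGroup.mk' (oddCore H) with hq
  have hqs : Function.Surjective q := QuotientGroup.mk'_surjective _
  have ht' : IsInv (q t) := isInv_mk ht
  have : Fact (Nat.Prime 2) := ⟨Nat.prime_two⟩
  -- conjugates of `t` centralise `O(H)`
  have hO' : ∀ k : H, ∀ y ∈ oddCore H, y * (k * t * k⁻¹) = (k * t * k⁻¹) * y := by
    intro k y hy
    have hn : (oddCore H).Normal := Cfsg.Agent.Lib.Cores.pPrimeCore_normal 2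
    have h1 := hO _ (hn.conj_mem y hy k⁻¹)
    rw [inv_inv] at h1
    calc y * (k * t * k⁻¹) = k * (k⁻¹ * y * k * t) * k⁻¹ := by group
      _ = k * (t * (k⁻¹ * y * k)) * k⁻¹ := by rw [h1]
      _ = _ := by group
  -- an involution `x` times an element `o` of `O(H)` commuting with it, which is an involution
  have hone : ∀ x o : H, o ∈ oddCore H → x * x = 1 → o * x = x * o → (x * o) * (x * o) = 1 →
      o = 1 := by
    intro x o ho hx hox h1
    apply eq_one_of_sq (odd_card_oddCore H) ho
    calc o * o = (x * x) * (o * o) := by rw [hx, one_mul]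
      _ = x * (x * o) * o := by group
      _ = x * (o * x) * o := by rw [hox]
      _ = (x * o) * (x * o) := by group
      _ = 1 := h1
  have hPs : ∀ y ∈ (P : Subgroup H).map q, y * q t = q t * y := by
    rintro _ ⟨x, hx, rfl⟩
    rw [← map_mul, hP x hx, map_mul]
  have hQ := (P.mapSurjective hqs)
  have hQc : ((P.mapSurjective hqs : Sylow 2 (H ⧸ oddCore H)) : Subgroup (H ⧸ oddCore H)) =
      (P : Subgroup H).map q := Sylow.coe_mapSurjective _ _
  rcases solvable_structure hFT hH hs with h | ⟨V, hVn, hV, hC, hi⟩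
  · left
    intro g
    -- the Sylow subgroup is everything
    have h1 : ((P.mapSurjective hqs : Sylow 2 (H ⧸ oddCore H)) : Subgroup (H ⧸ oddCore H)) = ⊤ := by
      have h2 : IsPGroup 2 (⊤ : Subgroup (H ⧸ oddCore H)) := h.to_subgroup ⊤
      exact ((P.mapSurjective hqs).is_maximal' h2 le_top).symm
    rw [hQc] at h1
    have h2 : q g * q t = q t * q g := hPs _ (h1 ▸ mem_top _)
    have h3 : t⁻¹ * (g * t * g⁻¹) ∈ oddCore H := by
      refine (QuotientGroup.eq (s := oddCore H)).1 ?_
      show q t = q (g * t * g⁻¹)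
      rw [map_mul, map_mul, map_inv, h2]; group
    have h4 : t⁻¹ * (g * t * g⁻¹) = 1 := by
      refine hone t _ h3 ht.1 (hO _ h3) ?_
      have : t * (t⁻¹ * (g * t * g⁻¹)) = g * t * g⁻¹ := by group
      rw [this]
      exact (ht.conj g).1
    have h5 : g * t * g⁻¹ = t := (inv_mul_eq_one.1 h4).symm
    rwa [mul_inv_eq_iff_eq_mul] at h5
  · right
    -- `V ≤ P̄`, so `t̄ ∈ C(V) = V`
    have hVP : V ≤ (P : Subgroup H).map q := by
      rw [← hQc]
      have h1 : IsPGroup 2 V := IsPGroup.of_card (n := 2) (by rw [hV.card_four]; norm_num)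
      obtain ⟨Q, hQ1⟩ := h1.exists_le_sylow
      obtain ⟨g, hg⟩ := MulAction.exists_smul_eq (H ⧸ oddCore H) Q (P.mapSurjective hqs)
      rw [← hg]
      intro v hv
      rw [Sylow.coe_subgroup_smul, Subgroup.mem_pointwise_smul_iff_inv_smul_mem]
      apply hQ1
      have := hVn.conj_mem v hv g⁻¹
      rw [inv_inv] at this
      simpa [MulAut.smul_def] using this
    have htV : q t ∈ V := by
      rw [← hC, mem_centralizer_iff]
      intro v hv
      exact hPs v (hVP hv)
    -- an element of order 3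
    have : Fact (Nat.Prime 3) := ⟨Nat.prime_three⟩
    have h3 : 3 ∣ Nat.card (H ⧸ oddCore H) := by
      have h4 : V.index ∣ Nat.card (H ⧸ oddCore H) := V.index_dvd_card
      rcases hi with hi | hi
      · rwa [hi] at h4
      · rw [hi] at h4
        exact (by norm_num : 3 ∣ 6).trans h4
    obtain ⟨k', hk'⟩ := exists_prime_orderOf_dvd_card' 3 h3
    have hk1 : k' ≠ 1 := by
      rintro rfl
      rw [orderOf_one] at hk'
      exact absurd hk' (by norm_num)
    have hko : Odd (orderOf k') := by rw [hk']; decide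
    have hfpf : ∀ v ∈ V, v ≠ 1 → k' * v ≠ v * k' := fun v hv hv1 => fpf_of_odd hV hC hko hk1 hv hv1
    obtain ⟨k, rfl⟩ := hqs k'
    have huV : q (k * t * k⁻¹) ∈ V := by
      rw [map_mul, map_mul, map_inv]
      exact hVn.conj_mem _ htV _
    have hu : IsInv (k * t * k⁻¹) := ht.conj k
    have hu' : IsInv (q (k * t * k⁻¹)) := isInv_mk hu
    have hne' : q t ≠ q (k * t * k⁻¹) := by
      intro h
      apply hfpf _ htV ht'.2
      rw [map_mul, map_mul, map_inv] at h
      rw [eq_comm, mul_inv_eq_iff_eq_mul] at h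
      exact h
    have hcomm' : q t * q (k * t * k⁻¹) = q (k * t * k⁻¹) * q t := klein_comm hV htV huV
    -- `t` and `u` commute
    have hc : t * (k * t * k⁻¹) = (k * t * k⁻¹) * t := by
      set u := k * t * k⁻¹ with hudef
      clear_value u
      have h4 : (u * t)⁻¹ * (t * u) ∈ oddCore H := by
        refine (QuotientGroup.eq (s := oddCore H)).1 ?_
        show q (u * t) = q (t * u)
        rw [map_mul, map_mul, hcomm']
      set c := (u * t)⁻¹ * (t * u) with hcdef
      have h5 : c * t = t * c := hO _ h4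
      have h6 : t * c * t = c⁻¹ := by
        have e1 : t⁻¹ = t := ht.inv_eq
        have e2 : u⁻¹ = u := hu.inv_eq
        have e3 : c = t * u * (t * u) := by rw [hcdef, mul_inv_rev, e1, e2]
        apply eq_inv_of_mul_eq_one_left
        rw [e3]
        calc t * (t * u * (t * u)) * t * (t * u * (t * u))
            = (t * t) * u * t * u * (t * t) * u * t * u := by group
          _ = u * t * (u * u) * t * u := by rw [ht.1]; group
          _ = u * (t * t) * u := by rw [hu.1]; group
          _ = 1 := by rw [ht.1, mul_one, hu.1]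
      have h7 : c = c⁻¹ := by
        rw [← h6, mul_assoc, h5, ← mul_assoc, ht.1, one_mul]
      have h8 : c = 1 := by
        apply eq_one_of_sq (odd_card_oddCore H) h4
        rw [mul_eq_one_iff_eq_inv]
        exact h7
      have h9 : (u * t)⁻¹ * (t * u) = 1 := h8
      exact (inv_mul_eq_one.1 h9).symm
    refine ⟨k * t * k⁻¹, k, hu, hc, fun h => hne' (by rw [h]), rfl, ?_⟩
    have hO'' : ∀ y ∈ oddCore H, y * (k * (k * t * k⁻¹) * k⁻¹) = (k * (k * t * k⁻¹) * k⁻¹) * y := by
      intro y hy
      have := hO' (k * k) y hy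
      have e : k * k * t * (k * k)⁻¹ = k * (k * t * k⁻¹) * k⁻¹ := by group
      rwa [e] at this
    have hO1 := hO' k
    set u := k * t * k⁻¹ with hudef
    clear_value u
    -- `k u k⁻¹ = t u`
    have hkuV : q (k * u * k⁻¹) ∈ V := by
      rw [map_mul, map_mul, map_inv]
      exact hVn.conj_mem _ huV _
    have h10 : q (k * u * k⁻¹) = q (t * u) := by
      have hku : IsInv (q (k * u * k⁻¹)) := isInv_mk (hu.conj k)
      rcases klein_cases hV htV huV hkuV ht'.2 hu'.2 hne' with h | h | h | h
      · exact absurd h hku.2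
      · -- `k u k⁻¹ = t̄`, `k t k⁻¹ = ū`: then `t u` is fixed
        exfalso
        apply hfpf (q t * q u) (V.mul_mem htV huV)
        · intro h11
          apply hne'
          rw [mul_eq_one_iff_eq_inv, hu'.inv_eq] at h11
          exact h11
        · rw [map_mul, map_mul, map_inv] at h
          rw [mul_inv_eq_iff_eq_mul] at h
          have h12 : q u * q k = q k * q t := by
            rw [hudef, map_mul, map_mul, map_inv]; group
          calc q k * (q t * q u) = (q k * q t) * q u := by group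
            _ = q u * (q k * q u) := by rw [← h12]; group
            _ = q u * (q t * q k) := by rw [h]
            _ = (q u * q t) * q k := by group
            _ = q t * q u * q k := by rw [hcomm']
      · exfalso
        apply hfpf _ huV hu'.2
        rw [map_mul, map_mul, map_inv, mul_inv_eq_iff_eq_mul] at h
        exact h
      · rw [h, map_mul]
    have h11 : (t * u)⁻¹ * (k * u * k⁻¹) ∈ oddCore H := by
      refine (QuotientGroup.eq (s := oddCore H)).1 ?_
      exact h10.symm
    have h12 : (t * u)⁻¹ * (k * u * k⁻¹) = 1 := by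
      have htu : IsInv (t * u) := ht.mul hu hc (fun h => hne' (by rw [← h]))
      refine hone (t * u) _ h11 htu.1 ?_ ?_
      · have e1 := hO _ h11
        have e2 := hO1 _ h11
        rw [← mul_assoc, e1, mul_assoc, e2, ← mul_assoc]
      · have : t * u * ((t * u)⁻¹ * (k * u * k⁻¹)) = k * u * k⁻¹ := by group
        rw [this]
        exact (hu.conj k).1
    exact (inv_mul_eq_one.1 h12).symm

end solvable2

end Cfsg.Agent.Classification.GWSolvable.Core
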