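import Mathlib
import Cfsg.Agent.Classification.GWSolvable.Core

/-!
# Fusion of four-groups when there is one class of involutions
-/

set_option autoImplicit false

namespace Cfsg.Agent.Classification.GWSolvable.Rot

open Subgroup Cfsg
open Cfsg.Agent.Classification.TypeB.Basic
open Cfsg.Agent.Classification.DihedralCentral Cfsg.Agent.Classification.DihStructure
open Cfsg.Agent.TwoFusion.DihedralFusion

variable {G : Type*} [Group G] [Finite G]

theorem isKleinFour_of {a b : G} (ha : IsInv a) (hb : IsInv b) (hab : a * b = b * a)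
    (hne : a ≠ b) : IsKleinFour (fourGroup a b ha.1 hb.1 hab) :=
  isKleinFour_fourGroup ha.1 hb.1 hab ha.2 hb.2 hne

theorem isPGroup_fourGroup {a b : G} (ha : a * a = 1) (hb : b * b = 1) (hab : a * b = b * a) :
    IsPGroup 2 (fourGroup a b ha hb hab) := by
  intro x
  refine ⟨1, ?_⟩
  rw [pow_one, sq]
  exact Subtype.ext (sq_of_mem_fourGroup ha hb hab x.2)

/-- every involution centralises a Sylow 2-subgroup -/
theorem exists_sylow_centralizer (hone : ∀ u v : G, IsInv u → IsInv v → IsConj u v) {a : G}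
    (ha : IsInv a) : ∃ S : Sylow 2 G, (S : Subgroup G) ≤ centralizer ({a} : Set G) := by
  have : Fact (Nat.Prime 2) := ⟨Nat.prime_two⟩
  obtain ⟨S⟩ : Nonempty (Sylow 2 G) := inferInstance
  obtain ⟨g, hg⟩ := exists_conj_mem_sylow S a ha.1
  have hnt : Nontrivial (S : Subgroup G) := by
    refine ⟨⟨⟨_, hg⟩, 1, fun h => (ha.conj g).2 (congrArg Subtype.val h)⟩⟩
  have hc : Nontrivial (Subgroup.center (S : Subgroup G)) := S.2.center_nontrivial
  obtain ⟨z, hz, hz1⟩ : ∃ z : Subgroup.center (S : Subgroup G), IsInv z ∧ True := by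
    have h2 : 2 ∣ Nat.card (Subgroup.center (S : Subgroup G)) := by
      have h3 : IsPGroup 2 (Subgroup.center (S : Subgroup G)) := S.2.to_subgroup _
      obtain ⟨n, hn, hcn⟩ := h3.nontrivial_iff_card.1 hc
      rw [hcn]
      exact dvd_pow_self 2 hn.ne'
    obtain ⟨z, hz⟩ := exists_prime_orderOf_dvd_card' 2 h2
    obtain ⟨h4, h5⟩ := (orderOf_two_iff z).1 hz
    exact ⟨z, ⟨h4, h5⟩, trivial⟩
  have hzi : IsInv (((z : (S : Subgroup G)) : G)) := by
    refine ⟨?_, ?_⟩
    · have := congrArg (fun y : Subgroup.center (S : Subgroup G) => ((y : (S : Subgroup G)) : G))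
        hz.1
      simpa using this
    · intro h
      apply hz.2
      apply Subtype.ext
      apply Subtype.ext
      exact h
  obtain ⟨c, hc⟩ := isConj_iff.1 (hone _ a hzi ha)
  refine ⟨c • S, ?_⟩
  intro y hy
  rw [Sylow.coe_subgroup_smul, Subgroup.mem_pointwise_smul_iff_inv_smul_mem] at hy
  have hy' : c⁻¹ * y * c ∈ (S : Subgroup G) := by
    simpa [MulAut.smul_def] using hy
  rw [mem_centralizer_singleton_iff]
  have h1 := Subgroup.mem_center_iff.1 (z : Subgroup.center (S : Subgroup G)).2 ⟨_, hy'⟩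
  have h2 : (c⁻¹ * y * c) * ((z : (S : Subgroup G)) : G) =
      ((z : (S : Subgroup G)) : G) * (c⁻¹ * y * c) := congrArg Subtype.val h1
  rw [← hc]
  calc y * (c * ((z : (S : Subgroup G)) : G) * c⁻¹)
      = c * ((c⁻¹ * y * c) * ((z : (S : Subgroup G)) : G)) * c⁻¹ := by group
    _ = c * (((z : (S : Subgroup G)) : G) * (c⁻¹ * y * c)) * c⁻¹ := by rw [h2]
    _ = _ := by group

/-- a 2-subgroup of `C(a)` lies in a Sylow 2-subgroup of `G` centralising `a` -/
theorem exists_sylow_ge (hone : ∀ u v : G, IsInv u → IsInv v → IsConj u v) {a : G}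
    (ha : IsInv a) {V : Subgroup G} (hV : IsPGroup 2 V) (hVa : V ≤ centralizer ({a} : Set G)) :
    ∃ S : Sylow 2 G, V ≤ S ∧ (S : Subgroup G) ≤ centralizer ({a} : Set G) := by
  have : Fact (Nat.Prime 2) := ⟨Nat.prime_two⟩
  obtain ⟨S, hS⟩ := exists_sylow_centralizer hone ha
  obtain ⟨c, hc, hcV⟩ := exists_conj_mem S _ V hS hVa hV
  refine ⟨c⁻¹ • S, ?_, ?_⟩
  · intro v hv
    rw [Sylow.coe_subgroup_smul, Subgroup.mem_pointwise_smul_iff_inv_smul_mem]
    simpa [MulAut.smul_def] using hcV v hv
  · intro y hy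
    rw [Sylow.coe_subgroup_smul, Subgroup.mem_pointwise_smul_iff_inv_smul_mem] at hy
    have hy' : c * y * c⁻¹ ∈ (S : Subgroup G) := by
      simpa [MulAut.smul_def] using hy
    have h1 := hS hy'
    have h2 := mul_mem (mul_mem (inv_mem hc) h1) hc
    have h3 : c⁻¹ * (c * y * c⁻¹) * c = y := by group
    rwa [h3] at h2

/-- some element fixes `a` and interchanges `b` and `a b`, if the Sylow 2-subgroups are not
four-groups -/
theorem exists_swap (hG : SubDihedral G) (hone : ∀ u v : G, IsInv u → IsInv v → IsConj u v)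
    {a b : G} (ha : IsInv a) (hb : IsInv b) (hab : a * b = b * a) (hne : a ≠ b)
    (S : Sylow 2 G) (hS : Nat.card (S : Subgroup G) ≠ 4) :
    ∃ s : G, s * a * s⁻¹ = a ∧ s * b * s⁻¹ = a * b := by
  have : Fact (Nat.Prime 2) := ⟨Nat.prime_two⟩
  set V := fourGroup a b ha.1 hb.1 hab with hVdef
  have hV : IsKleinFour V := isKleinFour_of ha hb hab hne
  have hV4 : Nat.card V = 4 := hV.card_four
  have haV : a ∈ V := left_mem_fourGroup _ _ _
  have hbV : b ∈ V := right_mem_fourGroup _ _ _
  have hVa : V ≤ centralizer ({a} : Set G) := by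
    apply fourGroup_le
    · exact mem_centralizer_singleton_iff.2 rfl
    · exact mem_centralizer_singleton_iff.2 hab.symm
  obtain ⟨T, hVT, hTa⟩ := exists_sylow_ge hone ha (isPGroup_fourGroup _ _ _) hVa
  have hTS : Nat.card (T : Subgroup G) = Nat.card (S : Subgroup G) :=
    Nat.card_congr (Sylow.equiv T S).toEquiv
  have hlt : V < (T : Subgroup G) := by
    refine lt_of_le_of_ne hVT ?_
    intro h
    apply hS
    rw [← hTS, ← h, hV4]
  have hnil : Group.IsNilpotent (T : Subgroup G) := T.2.isNilpotent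
  have hnc : NormalizerCondition (T : Subgroup G) := Group.normalizerCondition_of_isNilpotent
  have hlt' : V.subgroupOf (T : Subgroup G) < ⊤ := by
    rw [lt_top_iff_ne_top]
    intro h
    rw [subgroupOf_eq_top] at h
    exact absurd h (not_le_of_gt hlt)
  obtain ⟨s, hs, hsV⟩ := SetLike.exists_of_lt (hnc _ hlt')
  have hsV' : (s : G) ∉ V := fun h => hsV (mem_subgroupOf.2 h)
  have hsn : ∀ x ∈ V, (s : G) * x * (s : G)⁻¹ ∈ V := by
    intro x hx
    have h1 := (mem_normalizer_iff.1 hs ⟨x, hVT hx⟩).1 (mem_subgroupOf.2 hx)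
    exact mem_subgroupOf.1 h1
  have hsa : (s : G) * a = a * s := mem_centralizer_singleton_iff.1 (hTa s.2)
  have hsa' : (s : G) * a * (s : G)⁻¹ = a := by rw [hsa]; group
  refine ⟨s, hsa', ?_⟩
  have h1 := hsn b hbV
  rcases (mem_fourGroup (ha := ha.1) (hb := hb.1) (hab := hab)).1 h1 with h | h | h | h
  · exact absurd h (hb.conj (s : G)).2
  · exfalso
    apply hne
    rw [mul_inv_eq_iff_eq_mul, ← hsa] at h
    exact (mul_left_cancel h).symm
  · -- `s` centralises `V`
    exfalso
    apply hsV'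
    have hsb : (s : G) * b = b * s := by rwa [mul_inv_eq_iff_eq_mul] at h
    have hle : V ⊔ zpowers (s : G) ≤ T := by
      rw [sup_le_iff, zpowers_le]
      exact ⟨hVT, s.2⟩
    have hcV : ∀ x ∈ V, (s : G) * x = x * s := by
      intro x hx
      rcases (mem_fourGroup (ha := ha.1) (hb := hb.1) (hab := hab)).1 hx with h | h | h | h
      · rw [h]; simp
      · rw [h]; exact hsa
      · rw [h]; exact hsb
      · rw [h, ← mul_assoc, hsa, mul_assoc, hsb, mul_assoc]
    have hc : V ⊔ zpowers (s : G) ≤ centralizer (V : Set G) := by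
      rw [sup_le_iff, zpowers_le]
      refine ⟨fun x hx => ?_, ?_⟩
      · rw [mem_centralizer_iff]
        intro y hy
        exact comm_of_isKleinFour hV hy hx
      · rw [mem_centralizer_iff]
        intro y hy
        exact (hcV y hy).symm
    have h2 := eq_of_centralizes hG V _ hV le_sup_left (T.2.to_le hle) hc
    rw [← h2]
    exact le_sup_right (a := V) (mem_zpowers (s : G))
  · exact h

/-- **Fusion**: if all involutions are conjugate, every four-group is permuted cyclically by its
normaliser. -/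
theorem exists_rot (hG : SubDihedral G) (hone : ∀ u v : G, IsInv u → IsInv v → IsConj u v)
    {t u : G} (ht : IsInv t) (hu : IsInv u) (htu : t * u = u * t) (hne : t ≠ u) :
    ∃ k : G, k * t * k⁻¹ = u ∧ k * u * k⁻¹ = t * u := by
  have : Fact (Nat.Prime 2) := ⟨Nat.prime_two⟩
  have htt := ht.1
  have huu := hu.1
  have e1 : u * (t * u) = t := by rw [← mul_assoc, ← htu, mul_assoc, huu, mul_one]
  have e2 : t * (t * u) = u := by rw [← mul_assoc, htt, one_mul]
  have hi : IsInv (t * u) := ht.mul hu htu hne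
  set V := fourGroup t u htt huu htu with hVdef
  have hV : IsKleinFour V := isKleinFour_of ht hu htu hne
  obtain ⟨S, hVS⟩ := (isPGroup_fourGroup htt huu htu).exists_le_sylow
  by_cases hS : Nat.card (S : Subgroup G) = 4
  · -- Burnside
    have hSV : (S : Subgroup G) = V := by
      symm
      apply Subgroup.eq_of_le_of_card_ge hVS
      rw [hS, hV.card_four]
    have hcomm : IsMulCommutative (S : Subgroup G) := by
      rw [hSV]; exact hV.isMulCommutative
    have hmem : ∀ x, x = t ∨ x = u ∨ x = t * u → x ∈ V := by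
      intro x hx
      exact (mem_fourGroup (ha := htt) (hb := huu) (hab := htu)).2 (Or.inr hx)
    have key : ∀ x y : G, (x = t ∨ x = u ∨ x = t * u) → (y = t ∨ y = u ∨ y = t * u) →
        IsInv x → IsInv y → ∃ g : G, g * x * g⁻¹ = y ∧ ∀ v ∈ V, g * v * g⁻¹ ∈ V := by
      intro x y hx hy hxi hyi
      obtain ⟨c, hc⟩ := isConj_iff.1 (hone x y hxi hyi)
      obtain ⟨n, hn, hn2⟩ := Sylow.conj_eq_normalizer_conj_of_mem S x c⁻¹
        (by show x ∈ (S : Subgroup G); rw [hSV]; exact hmem x hx)
        (by rw [inv_inv, hc]; show y ∈ (S : Subgroup G); rw [hSV]; exact hmem y hy)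
      rw [inv_inv, hc] at hn2
      refine ⟨n⁻¹, by rw [inv_inv]; exact hn2.symm, ?_⟩
      intro v hv
      have hn' : n ∈ normalizer (((S : Subgroup G) : Subgroup G) : Set G) := hn
      rw [hSV] at hn'
      exact (mem_normalizer_iff.1 (inv_mem hn') v).1 hv
    obtain ⟨g, hg, hgV⟩ := key t u (Or.inl rfl) (Or.inr (Or.inl rfl)) ht hu
    have hgu : g * u * g⁻¹ = t * u ∨ g * u * g⁻¹ = t := by
      rcases (mem_fourGroup (ha := htt) (hb := huu) (hab := htu)).1
        (hgV u (hmem u (Or.inr (Or.inl rfl)))) with h | h | h | h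
      · exact absurd h (hu.conj g).2
      · exact Or.inr h
      · exfalso
        apply hne
        have h3 : g * t * g⁻¹ = g * u * g⁻¹ := by rw [hg, h]
        exact mul_left_cancel (mul_right_cancel h3)
      · exact Or.inl h
    rcases hgu with hgu | hgu
    · exact ⟨g, hg, hgu⟩
    · obtain ⟨c, hc, hcV⟩ := key u (t * u) (Or.inr (Or.inl rfl)) (Or.inr (Or.inr rfl)) hu hi
      have hct : c * t * c⁻¹ = u ∨ c * t * c⁻¹ = t := by
        rcases (mem_fourGroup (ha := htt) (hb := huu) (hab := htu)).1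
          (hcV t (hmem t (Or.inl rfl))) with h | h | h | h
        · exact absurd h (ht.conj c).2
        · exact Or.inr h
        · exact Or.inl h
        · exfalso
          apply hne
          have h3 : c * t * c⁻¹ = c * u * c⁻¹ := by rw [hc, h]
          exact mul_left_cancel (mul_right_cancel h3)
      rcases hct with hct | hct
      · exact ⟨c, hct, hc⟩
      · -- `c g : t ↦ t u ↦ u ↦ t`
        have h1 : (c * g) * t * (c * g)⁻¹ = t * u := by
          calc (c * g) * t * (c * g)⁻¹ = c * (g * t * g⁻¹) * c⁻¹ := by group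
            _ = t * u := by rw [hg, hc]
        have h2 : (c * g) * u * (c * g)⁻¹ = t := by
          calc (c * g) * u * (c * g)⁻¹ = c * (g * u * g⁻¹) * c⁻¹ := by group
            _ = t := by rw [hgu, hct]
        have h3 : (c * g) * (t * u) * (c * g)⁻¹ = u := by
          calc (c * g) * (t * u) * (c * g)⁻¹
              = ((c * g) * t * (c * g)⁻¹) * ((c * g) * u * (c * g)⁻¹) := by group
            _ = t * u * t := by rw [h1, h2]
            _ = u := by rw [htu, mul_assoc, htt, mul_one]
        refine ⟨(c * g) * (c * g), ?_, ?_⟩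
        · calc (c * g) * (c * g) * t * ((c * g) * (c * g))⁻¹
              = (c * g) * ((c * g) * t * (c * g)⁻¹) * (c * g)⁻¹ := by group
            _ = u := by rw [h1, h3]
        · calc (c * g) * (c * g) * u * ((c * g) * (c * g))⁻¹
              = (c * g) * ((c * g) * u * (c * g)⁻¹) * (c * g)⁻¹ := by group
            _ = t * u := by rw [h2, h1]
  · obtain ⟨s, hs1, hs2⟩ := exists_swap hG hone ht hu htu hne S hS
    obtain ⟨r, hr1, hr2⟩ := exists_swap hG hone hu ht htu.symm hne.symm S hS
    refine ⟨s * r, ?_, ?_⟩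
    · calc s * r * t * (s * r)⁻¹ = s * (r * t * r⁻¹) * s⁻¹ := by group
        _ = s * (u * t) * s⁻¹ := by rw [hr2]
        _ = (s * u * s⁻¹) * (s * t * s⁻¹) := by group
        _ = t * u * t := by rw [hs1, hs2]
        _ = u := by rw [htu, mul_assoc, htt, mul_one]
    · calc s * r * u * (s * r)⁻¹ = s * (r * u * r⁻¹) * s⁻¹ := by group
        _ = t * u := by rw [hr1, hs2]

end Cfsg.Agent.Classification.GWSolvable.Rot
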