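import Mathlib
import Cfsg.Agent.Classification.TypeZ.Bender
import Cfsg.Agent.Classification.GWSolvable.Rot

/-!
# Type Z with solvable local subgroups: local analysis

`H = C(t)` is maximal and all local subgroups are solvable.

* `not_good`: a four-group `⟨t, u⟩` centralising `1 ≠ x ∈ F(K_t)` is not fused in `C(x)`;
* `core_or`: `u` centralises `O_p(K_t)` or acts on it without fixed points;
* `comm_le`, `comm_inf`: `[K_t, u] ≤ F(K_t)` is inverted by `u`;
* `centralizer_le`: `C(f) ≤ C(t)` for `1 ≠ f ∈ F(K_t)`.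
-/

set_option autoImplicit false

namespace Cfsg.Agent.Classification.GWSolvable.Local

open Subgroup Cfsg
open Cfsg.Agent.Classification.TypeB.Basic Cfsg.Agent.Classification.TypeB.Core
open Cfsg.Agent.OddOrderLocal Cfsg.Agent.OddOrderLocal.PiCoreOf
open Cfsg.Agent.Classification.DihedralCentral Cfsg.Agent.Classification.TransferSign
open Cfsg.Agent.Classification.DihReduction Cfsg.Agent.Classification.DihStructure
open Cfsg.Agent.Classification.DihMinimal Cfsg.Agent.Classification.GWDefs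
open Cfsg.Agent.Classification.TypeZ.Bender
open Cfsg.Agent.Classification.GWSolvable.Core Cfsg.Agent.Classification.GWSolvable.Rot
open Cfsg.Agent.TwoFusion.DihedralFusion

universe u

variable {G : Type u} [Group G] [Finite G] {t : G}

theorem isSolvable_of_le' {K L : Subgroup G} (h : K ≤ L) (hL : Group.IsSolvable L) :
    Group.IsSolvable K :=
  Group.isSolvable_of_isSolvable_injective (Subgroup.inclusion_injective h)

theorem isSolvable_centralizer (hs : LocSol G) {x : G} (hx : x ≠ 1) :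
    Group.IsSolvable (centralizer ({x} : Set G)) := by
  have h1 : orderOf x ≠ 1 := fun h => hx (orderOf_eq_one_iff.1 h)
  have hp : (orderOf x).minFac.Prime := Nat.minFac_prime h1
  set p := (orderOf x).minFac with hpdef
  have hy : orderOf (x ^ (orderOf x / p)) = p :=
    orderOf_pow_orderOf_div (orderOf_pos x).ne' (Nat.minFac_dvd _)
  set y := x ^ (orderOf x / p) with hydef
  have h2 : IsPGroup p (zpowers y) := FitCores.isPGroup_zpowers hp hy
  have h3 : zpowers y ≠ ⊥ := by
    intro h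
    rw [zpowers_eq_bot] at h
    rw [h, orderOf_one] at hy
    exact hp.one_lt.ne hy
  refine isSolvable_of_le' ?_ (hs p _ hp h2 h3)
  intro g hg
  have hgx : Commute g x := mem_centralizer_singleton_iff.1 hg
  apply mem_normalizer_of_conj
  rintro _ ⟨n, rfl⟩
  have h4 : Commute g (y ^ n) := (hgx.pow_right _).zpow_right n
  refine ⟨n, ?_⟩
  show y ^ n = g * y ^ n * g⁻¹
  rw [h4.eq]; group

theorem mem_oc_of_commute (hFT : OddOrder.{u}) (hG : SubDihedral G) {H : Subgroup G}
    (hH : Group.IsSolvable H) {u y : G} (hu : IsInv u) (huH : u ∈ H) (hyH : y ∈ H)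
    (hyu : y * u = u * y) (hy : Odd (orderOf y)) : y ∈ oc H := by
  rw [← mk_mem_oddCore_iff hyH]
  refine mem_oddCore_of_commute hFT
    (subDihedral_of_injective H.subtype H.subtype_injective hG) hH (u := ⟨u, huH⟩) ?_ ?_ ?_
  · exact ⟨Subtype.ext hu.1, fun h => hu.2 (congrArg Subtype.val h)⟩
  · exact Subtype.ext hyu
  · rw [Subgroup.orderOf_mk]; exact hy

/-- `F(K_t)` centralised by `u` is impossible. -/
theorem not_centralizes_fitting (h : ZHyp G t) {u : G} (hu : IsInv u) (htu : t * u = u * t)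
    (hne : u ≠ t) (hK : Kc t ≠ ⊥)
    (hc : fittingOf (Kc t) ≤ centralizer ({u} : Set G)) : False := by
  apply hK
  apply h.core_eq_bot hu hne
  rw [← zpowers_le_centralizer_iff]
  apply FitCores.le_centralizer_of_centralizes_fitting
  · rw [zpowers_le]
    exact normalizer_Kc_le t (mem_centralizer_singleton_iff.2 htu.symm)
  · exact h.ft _ (odd_Kc t)
  · exact coprime_of_odd (odd_Kc t) hu
  · rwa [zpowers_le_centralizer_iff]

/-- (S1) -/
theorem not_good (h : ZHyp G t) (hs : LocSol G) {u x : G} (g : Good t u x) : False := by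
  set B := centralizer ({x} : Set G) with hB
  have hsol : Group.IsSolvable B := isSolvable_centralizer hs g.ne_one
  have hO1 := g.oc_le_centralizer h
  have hO2 := g.oc_le_centralizer_u h
  obtain ⟨k, hkx, hkt, hku⟩ := g.fused
  have hiv : IsInv (t * u) := g.inv_mul h
  have htB : t ∈ B := mem_centralizer_singleton_iff.2 g.comm_t.symm
  have huB : u ∈ B := mem_centralizer_singleton_iff.2 g.comm_u.symm
  have hkB : k ∈ B := mem_centralizer_singleton_iff.2 hkx
  have hsub : SubDihedral B := subDihedral_of_injective B.subtype B.subtype_injective h.sub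
  -- conjugates of `t` under `B`
  have key : ∀ b ∈ B, b * t * b⁻¹ = t ∨ b * t * b⁻¹ = u ∨ b * t * b⁻¹ = t * u := by
    intro b hb
    obtain ⟨v, hv, hvo⟩ := fused_conj h.ft hsub hsol (t := ⟨t, htB⟩) (u := ⟨u, huB⟩)
      (k := ⟨k, hkB⟩) ⟨Subtype.ext h.inv.1, fun h' => h.inv.2 (congrArg Subtype.val h')⟩
      ⟨Subtype.ext g.inv_u.1, fun h' => g.inv_u.2 (congrArg Subtype.val h')⟩
      (Subtype.ext g.comm) (fun h' => g.ne (congrArg Subtype.val h').symm)
      (Subtype.ext hkt) (Subtype.ext hku) ⟨b, hb⟩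
    have hv' : (v : G) = t ∨ (v : G) = u ∨ (v : G) = t * u := by
      rcases hv with h1 | h1 | h1
      · left; rw [h1]
      · right; left; rw [h1]
      · right; right; rw [h1]; rfl
    have hvo' : (v : G)⁻¹ * (b * t * b⁻¹) ∈ oc B := by
      have h1 := (mk_mem_oddCore_iff (v⁻¹ * (⟨b, hb⟩ * ⟨t, htB⟩ * ⟨b, hb⟩⁻¹) : B).2).1 hvo
      exact h1
    have hvi : IsInv (v : G) := by
      rcases hv' with h1 | h1 | h1 <;> rw [h1]
      · exact h.inv
      · exact g.inv_u
      · exact hiv
    have hcomm : (v : G)⁻¹ * (b * t * b⁻¹) * v = v * ((v : G)⁻¹ * (b * t * b⁻¹)) := by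
      have h1 := mem_centralizer_singleton_iff.1 (hO1 hvo')
      have h2 := mem_centralizer_singleton_iff.1 (hO2 hvo')
      generalize (v : G)⁻¹ * (b * t * b⁻¹) = o at h1 h2 ⊢
      rcases hv' with h3 | h3 | h3 <;> rw [h3]
      · exact h1
      · exact h2
      · rw [← mul_assoc, h1, mul_assoc, h2, ← mul_assoc]
    have hone : (v : G)⁻¹ * (b * t * b⁻¹) = 1 := by
      apply eq_one_of_sq (odd_oc B) hvo'
      set o := (v : G)⁻¹ * (b * t * b⁻¹) with ho
      have e1 : (v : G) * o = b * t * b⁻¹ := by rw [ho]; group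
      have e2 : ((v : G) * o) * ((v : G) * o) = 1 := by rw [e1]; exact (h.inv.conj b).1
      calc o * o = ((v : G) * v) * (o * o) := by rw [hvi.1, one_mul]
        _ = v * (v * o) * o := by group
        _ = v * (o * v) * o := by rw [hcomm]
        _ = (v * o) * (v * o) := by group
        _ = 1 := e2
    have h5 : b * t * b⁻¹ = v := (inv_mul_eq_one.1 hone).symm
    rw [h5]
    exact hv'
  have key2 : ∀ b ∈ B, b * u * b⁻¹ = t ∨ b * u * b⁻¹ = u ∨ b * u * b⁻¹ = t * u := by
    intro b hb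
    have h1 := key (b * k) (mul_mem hb hkB)
    have h2 : b * k * t * (b * k)⁻¹ = b * u * b⁻¹ := by rw [← hkt]; group
    rwa [h2] at h1
  -- the four-group is normal in `B`
  set V := fourGroup t u h.inv.1 g.inv_u.1 g.comm with hV
  have hmem : ∀ y, (y = t ∨ y = u ∨ y = t * u) → y ∈ V := by
    intro y hy
    exact mem_fourGroup.2 (Or.inr hy)
  have hVB : V ≤ B := fourGroup_le _ _ _ htB huB
  have hn : B ≤ normalizer (V : Set G) := by
    intro b hb
    apply mem_normalizer_of_conj
    intro y hy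
    rcases mem_fourGroup.1 hy with h1 | h1 | h1 | h1
    · rw [h1]
      have : b * 1 * b⁻¹ = 1 := by group
      rw [this]
      exact V.one_mem
    · rw [h1]; exact hmem _ (key b hb)
    · rw [h1]; exact hmem _ (key2 b hb)
    · rw [h1]
      have : b * (t * u) * b⁻¹ = (b * t * b⁻¹) * (b * u * b⁻¹) := by group
      rw [this]
      exact V.mul_mem (hmem _ (key b hb)) (hmem _ (key2 b hb))
  have h2 : V ≤ piCoreOf {2} B :=
    FitCores.le_core_of_isPGroup Nat.prime_two hVB hn (isPGroup_fourGroup _ _ _)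
  have h3 : fittingOf (Kc t) ≤ centralizer ({u} : Set G) := by
    intro z hz
    rw [mem_centralizer_singleton_iff]
    exact (h.core_two g.mem_fit (h2 (hmem u (Or.inr (Or.inl rfl)))) hz).symm
  have hK : Kc t ≠ ⊥ := by
    intro hK
    have h4 := g.mem_Kc
    rw [hK, mem_bot] at h4
    exact g.ne_one h4
  exact not_centralizes_fitting h g.inv_u g.comm g.ne hK h3

/-! ### `[O, w]` when `w` centralises or inverts every `O_q(O)` -/

theorem eq_one_or_of_mem_zpowers {w s : G} (hw : IsInv w) (hs : s ∈ zpowers w) :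
    s = 1 ∨ s = w := by
  obtain ⟨n, rfl⟩ := hs
  have h2 : w ^ (2 : ℤ) = 1 := by
    rw [zpow_ofNat, pow_two]; exact hw.1
  rcases Int.even_or_odd' n with ⟨m, rfl | rfl⟩
  · left
    show w ^ (2 * m) = 1
    rw [zpow_mul, h2, one_zpow]
  · right
    show w ^ (2 * m + 1) = w
    rw [zpow_add, zpow_mul, h2, one_zpow, one_mul, zpow_one]

theorem comm_le_of {O X : Subgroup G} {w : G} (hw : IsInv w)
    (h : ∀ o ∈ O, o * w * o⁻¹ * w⁻¹ ∈ X) : ⁅O, zpowers w⁆ ≤ X := by
  rw [commutator_le]
  intro o ho s hs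
  rcases eq_one_or_of_mem_zpowers hw hs with rfl | rfl
  · rw [commutatorElement_one_right]; exact X.one_mem
  · exact h o ho

/-- `w` centralises `O_q(O)` or has no fixed points there. -/
def Alt (O : Subgroup G) (w : G) : Prop := ∀ q : ℕ, q.Prime →
  piCoreOf {q} O ≤ centralizer ({w} : Set G) ∨ piCoreOf {q} O ⊓ centralizer ({w} : Set G) = ⊥

theorem alt_def (O : Subgroup G) (w : G) : Alt O w ↔ ∀ q : ℕ, q.Prime →
  piCoreOf {q} O ≤ centralizer ({w} : Set G) ∨
    piCoreOf {q} O ⊓ centralizer ({w} : Set G) = ⊥ := Iff.rfl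

section alt

variable {O : Subgroup G} {w : G}

theorem comm_le_centralizer_fitting (hO : Odd (Nat.card O)) (hw : IsInv w)
    (hn : w ∈ normalizer (O : Set G)) (ha : Alt O w) :
    ⁅O, zpowers w⁆ ≤ centralizer (fittingOf O : Set G) := by
  rw [Subgroup.le_centralizer_iff, FitCores.fittingOf_le_iff]
  intro q hq
  rw [← Subgroup.le_centralizer_iff]
  set Q := piCoreOf {q} O with hQ
  have hOQ : O ≤ normalizer (Q : Set G) := le_normalizer_piCoreOf _ _
  have hwQ : w ∈ normalizer (Q : Set G) := normalizer_le_normalizer_piCoreOf _ _ hn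
  have hQo : Odd (Nat.card Q) := odd_of_le (piCoreOf_le _ _) hO
  apply comm_le_of hw
  intro o ho
  rw [mem_centralizer_iff]
  intro y hy
  have hy' : o⁻¹ * y * o ∈ Q := by
    have := conj_mem_of_mem_normalizer (inv_mem (hOQ ho)) hy
    rwa [inv_inv] at this
  rcases ha q hq with h1 | h1
  · have h2 : ∀ z ∈ Q, z * w = w * z := fun z hz => mem_centralizer_singleton_iff.1 (h1 hz)
    have e1 := h2 y hy
    have e2 := h2 _ hy'
    have e3 : y * w⁻¹ = w⁻¹ * y := by
      rw [eq_inv_mul_iff_mul_eq, ← mul_assoc, ← e1]; group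
    calc y * (o * w * o⁻¹ * w⁻¹) = o * ((o⁻¹ * y * o) * w) * o⁻¹ * w⁻¹ := by group
      _ = o * (w * (o⁻¹ * y * o)) * o⁻¹ * w⁻¹ := by rw [e2]
      _ = o * w * o⁻¹ * (y * w⁻¹) := by group
      _ = o * w * o⁻¹ * w⁻¹ * y := by rw [e3]; group
  · have h2 : ∀ z ∈ Q, w * z * w⁻¹ = z⁻¹ := fun z hz =>
      inverts_of_fixedPointFree hw hwQ h1 hz
    have e1 : w * y = y⁻¹ * w := by
      have := h2 y hy
      rwa [mul_inv_eq_iff_eq_mul] at this
    have e2 : w * (o⁻¹ * y * o) = (o⁻¹ * y * o)⁻¹ * w := by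
      have := h2 _ hy'
      rwa [mul_inv_eq_iff_eq_mul] at this
    have e3 : y * w⁻¹ = w⁻¹ * y⁻¹ := by
      rw [eq_inv_mul_iff_mul_eq, ← mul_assoc, e1]; group
    have e4 : (o⁻¹ * y * o) * w = w * (o⁻¹ * y⁻¹ * o) := by
      have := e2
      have h3 : w⁻¹ = w := hw.inv_eq
      calc (o⁻¹ * y * o) * w = w⁻¹ * (w * (o⁻¹ * y * o)) * w := by group
        _ = w⁻¹ * ((o⁻¹ * y * o)⁻¹ * w) * w := by rw [e2]
        _ = w⁻¹ * (o⁻¹ * y * o)⁻¹ * (w * w) := by group
        _ = w * (o⁻¹ * y⁻¹ * o) := by rw [hw.1, h3]; group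
    have e5 : y⁻¹ * w⁻¹ = w⁻¹ * y := by
      rw [eq_inv_mul_iff_mul_eq, ← mul_assoc]
      have h4 := h2 y⁻¹ (Q.inv_mem hy)
      rw [inv_inv] at h4
      exact h4
    calc y * (o * w * o⁻¹ * w⁻¹) = o * ((o⁻¹ * y * o) * w) * o⁻¹ * w⁻¹ := by group
      _ = o * (w * (o⁻¹ * y⁻¹ * o)) * o⁻¹ * w⁻¹ := by rw [e4]
      _ = o * w * o⁻¹ * (y⁻¹ * w⁻¹) := by group
      _ = o * w * o⁻¹ * w⁻¹ * y := by rw [e5]; group

theorem comm_le_fitting (hO : Odd (Nat.card O)) (hsol : Group.IsSolvable O) (hw : IsInv w)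
    (hn : w ∈ normalizer (O : Set G)) (ha : Alt O w) : ⁅O, zpowers w⁆ ≤ fittingOf O :=
  (le_inf (TypeB.Basic.comm_le hn) (comm_le_centralizer_fitting hO hw hn ha)).trans
    (FitCores.inf_centralizer_fittingOf_le hsol)

theorem comm_commutative (hO : Odd (Nat.card O)) (hsol : Group.IsSolvable O) (hw : IsInv w)
    (hn : w ∈ normalizer (O : Set G)) (ha : Alt O w) {x y : G} (hx : x ∈ ⁅O, zpowers w⁆)
    (hy : y ∈ ⁅O, zpowers w⁆) : x * y = y * x :=
  (mem_centralizer_iff.1 (comm_le_centralizer_fitting hO hw hn ha hx) y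
    (comm_le_fitting hO hsol hw hn ha hy)).symm

theorem comm_inf_centralizer (hO : Odd (Nat.card O)) (hsol : Group.IsSolvable O) (hw : IsInv w)
    (hn : w ∈ normalizer (O : Set G)) (ha : Alt O w) :
    ⁅O, zpowers w⁆ ⊓ centralizer ({w} : Set G) = ⊥ := by
  set R := ⁅O, zpowers w⁆ with hR
  have hRO : R ≤ O := TypeB.Basic.comm_le hn
  have hwR : zpowers w ≤ normalizer (R : Set G) :=
    Lib.CoprimeCommutator.right_le_normalizer_commutator _ _
  have h1 : R ≤ ⁅R, zpowers w⁆ := by rw [hR, comm_comm hO hw hn]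
  have h2 := inf_centralizer_le R (zpowers w) hwR (coprime_of_odd (odd_of_le hRO hO) hw).symm h1
  rw [centralizer_zpowers] at h2
  rw [eq_bot_iff]
  refine h2.trans ?_
  rw [commutator_le]
  intro x hx y hy
  rw [mem_bot, commutatorElement_def, comm_commutative hO hsol hw hn ha hx hy]
  group

theorem not_dvd_comm (hO : Odd (Nat.card O)) (hsol : Group.IsSolvable O) (hw : IsInv w)
    (hn : w ∈ normalizer (O : Set G)) (ha : Alt O w) {p : ℕ} (hp : p.Prime)
    (hc : piCoreOf {p} O ≤ centralizer ({w} : Set G)) :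
    ¬ p ∣ Nat.card (⁅O, zpowers w⁆ : Subgroup G) := by
  intro h
  obtain ⟨x, hx, hxo⟩ := FitCores.exists_mem_orderOf hp h
  have h1 : zpowers x ≤ piCoreOf {p} O :=
    FitCores.le_core_of_le_fittingOf hp
      (by rw [zpowers_le]; exact comm_le_fitting hO hsol hw hn ha hx)
      (FitCores.isPGroup_zpowers hp hxo)
  have h2 : x ∈ ⁅O, zpowers w⁆ ⊓ centralizer ({w} : Set G) := ⟨hx, hc (h1 (mem_zpowers x))⟩
  rw [comm_inf_centralizer hO hsol hw hn ha, mem_bot] at h2
  rw [h2, orderOf_one] at hxo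
  exact hp.one_lt.ne hxo

end alt

theorem card_fittingOf_centralizer_dvd (h : ZHyp G t) {q : ℕ} (hq : q ∣ Nat.card (fittingOf (Kc t))) :
    q ∣ Nat.card (fittingOf (centralizer ({t} : Set G))) :=
  hq.trans (card_dvd_of_le (ZHyp.fitting_Kc_le t))

/-- a prime `q ≠ 2` dividing `|F(C(t))|` divides `|F(K_t)|` -/
theorem dvd_card_fittingOf_Kc (h : ZHyp G t) {q : ℕ} (hq : q.Prime) (h2 : q ≠ 2)
    (hd : q ∣ Nat.card (fittingOf (centralizer ({t} : Set G)))) :
    q ∣ Nat.card (fittingOf (Kc t)) := by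
  have h1 : piCoreOf {q} (centralizer ({t} : Set G)) ≠ ⊥ := FitCores.core_ne_bot_of_dvd hq hd
  have h3 := FitCores.isPGroup_piCoreOf hq (centralizer ({t} : Set G))
  have h4 : piCoreOf {q} (centralizer ({t} : Set G)) ≤ Kc t :=
    le_Kc h.sub h.inv (odd_of_isPGroup hq h2 h3) (piCoreOf_le _ _)
  have h5 : piCoreOf {q} (centralizer ({t} : Set G)) ≤ piCoreOf {q} (Kc t) :=
    FitCores.le_core_of_isPGroup hq h4 ((Kc_le t).trans (le_normalizer_piCoreOf _ _)) h3
  exact FitCores.dvd_card_of_ne_bot hq h3 h1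
    (h5.trans (FitCores.piCoreOf_singleton_le_fittingOf hq _))

/-- `t` acts on every `O_q(O(C(f)))` trivially or without fixed points, for `f ∈ F(K_t)`. -/
theorem alt_oc (h : ZHyp G t) {f : G} (hf : f ∈ fittingOf (Kc t)) :
    Alt (oc (centralizer ({f} : Set G))) t := by
  intro q hq
  have hf' := ZHyp.fitting_Kc_le t hf
  have hle : piCoreOf {q} (oc (centralizer ({f} : Set G))) ≤
      piCoreOf {q} (centralizer ({f} : Set G)) :=
    FitCores.le_core_of_isPGroup hq ((piCoreOf_le _ _).trans (oc_le _))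
      ((le_normalizer_oc _).trans (normalizer_le_normalizer_piCoreOf _ _))
      (FitCores.isPGroup_piCoreOf hq _)
  by_cases h2 : q = 2
  · subst h2
    left
    have h3 : piCoreOf {2} (oc (centralizer ({f} : Set G))) = ⊥ := by
      by_contra hne
      obtain ⟨y, hy, hy2⟩ := FitCores.exists_mem_orderOf Nat.prime_two
        (FitCores.dvd_card_of_ne_bot Nat.prime_two (FitCores.isPGroup_piCoreOf Nat.prime_two _)
          hne (piCoreOf_le _ _))
      have h4 := odd_orderOf_of_mem (odd_oc _) hy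
      rw [hy2] at h4
      exact absurd h4 (by decide)
    rw [h3]; exact bot_le
  by_cases hd : q ∣ Nat.card (fittingOf (centralizer ({t} : Set G)))
  · left
    exact hle.trans (h.core_le hf' hq h2 hd)
  · right
    rw [eq_bot_iff]
    exact (inf_le_inf_right _ hle).trans (h.core_inf hf' hq hd).le

/-- (S2a) -/
theorem le_centralizer_of_pi (h : ZHyp G t) (hs : LocSol G) {u b : G} (hu : IsInv u)
    (hb : b ∈ fittingOf (Kc t)) (hb1 : b ≠ 1) (hbu : b * u = u * b) {Y : Subgroup G}
    (hYb : Y ≤ centralizer ({b} : Set G)) (hYu : Y ≤ centralizer ({u} : Set G))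
    (hYo : Odd (Nat.card Y)) (htY : t ∈ normalizer (Y : Set G))
    (hpi : ∀ q : ℕ, q.Prime → q ∣ Nat.card Y → q ∣ Nat.card (fittingOf (Kc t))) :
    Y ≤ centralizer ({t} : Set G) := by
  set B := centralizer ({b} : Set G) with hB
  have hsol : Group.IsSolvable B := isSolvable_centralizer hs hb1
  have hbt : b * t = t * b := mem_centralizer_singleton_iff.1 (Kc_le t (FitAux.fittingOf_le _ hb))
  have htB : t ∈ B := mem_centralizer_singleton_iff.2 hbt.symm
  have huB : u ∈ B := mem_centralizer_singleton_iff.2 hbu.symm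
  have hYO : Y ≤ oc B := fun y hy => mem_oc_of_commute h.ft h.sub hsol hu huB (hYb hy)
    (mem_centralizer_singleton_iff.1 (hYu hy)) (odd_orderOf_of_mem hYo hy)
  have htO : t ∈ normalizer (oc B : Set G) := le_normalizer_oc _ htB
  have hsO : Group.IsSolvable (oc B) := h.ft _ (odd_oc B)
  have ha := alt_oc h hb
  have hR := comm_le_fitting (odd_oc B) hsO h.inv htO ha
  set X := ⁅Y, zpowers t⁆ with hX
  have hXR : X ≤ ⁅oc B, zpowers t⁆ := commutator_mono hYO le_rfl
  have hXF : X ≤ fittingOf (oc B) := hXR.trans hR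
  have hXY : X ≤ Y := TypeB.Basic.comm_le htY
  have hXn : Group.IsNilpotent X := FitAux.isNilpotent_of_le hXF (FitAux.isNilpotent_fittingOf _)
  have hXX : X ≤ fittingOf X := FitAux.le_fittingOf le_rfl le_normalizer hXn
  have hXt : X ≤ centralizer ({t} : Set G) := by
    refine hXX.trans ?_
    rw [FitCores.fittingOf_le_iff]
    intro q hq
    by_cases hbot : piCoreOf {q} X = ⊥
    · rw [hbot]; exact bot_le
    have hP := FitCores.isPGroup_piCoreOf hq X
    have hd : q ∣ Nat.card Y := FitCores.dvd_card_of_ne_bot hq hP hbot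
      ((piCoreOf_le _ _).trans hXY)
    have hd2 := card_fittingOf_centralizer_dvd h (hpi q hq hd)
    have hq2 : q ≠ 2 := by
      rintro rfl
      exact not_two_dvd hYo hd
    have h1 : piCoreOf {q} X ≤ piCoreOf {q} (oc B) :=
      FitCores.le_core_of_le_fittingOf hq ((piCoreOf_le _ _).trans hXF) hP
    have h2 : piCoreOf {q} (oc B) ≤ piCoreOf {q} B :=
      FitCores.le_core_of_isPGroup hq ((piCoreOf_le _ _).trans (oc_le _))
        ((le_normalizer_oc _).trans (normalizer_le_normalizer_piCoreOf _ _))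
        (FitCores.isPGroup_piCoreOf hq _)
    exact h1.trans (h2.trans (h.core_le (ZHyp.fitting_Kc_le t hb) hq hq2 hd2))
  rw [← comm_eq_bot_iff]
  have h1 := comm_comm hYo h.inv htY
  rw [← h1, comm_eq_bot_iff]
  exact hXt

theorem core_conj (h : ZHyp G t) (π : Set ℕ) (g : G) :
    piCoreOf π (Kc (g * t * g⁻¹)) = (piCoreOf π (Kc t)).map (MulAut.conj g).toMonoidHom := by
  rw [← conj_Kc h.sub h.inv, Equivariance.piCoreOf_map]

theorem fitting_conj (h : ZHyp G t) (g : G) :
    fittingOf (Kc (g * t * g⁻¹)) = (fittingOf (Kc t)).map (MulAut.conj g).toMonoidHom := by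
  rw [← conj_Kc h.sub h.inv, Equivariance.fittingOf_map]

theorem card_fitting_eq (h : ZHyp G t) {u : G} (hu : IsInv u) :
    Nat.card (fittingOf (Kc u)) = Nat.card (fittingOf (Kc t)) := by
  obtain ⟨g, hg⟩ := isConj_iff.1 (h.one t u h.inv hu)
  rw [← hg, fitting_conj h, card_map_of_injective (MulAut.conj g).injective]

/-- (S2b) -/
theorem core_le_of_mem (h : ZHyp G t) (hs : LocSol G) {u b : G} (hu : IsInv u)
    (htu : t * u = u * t) {p : ℕ} (hp : p.Prime) (hb : b ∈ piCoreOf {p} (Kc t)) (hb1 : b ≠ 1)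
    (hbu : b * u = u * b) : piCoreOf {p} (Kc u) ≤ centralizer ({t} : Set G) := by
  have : Fact p.Prime := ⟨hp⟩
  have hbK : b ∈ Kc t := piCoreOf_le _ _ hb
  have hbF : b ∈ fittingOf (Kc t) := FitCores.piCoreOf_singleton_le_fittingOf hp _ hb
  have hbt : b * t = t * b := mem_centralizer_singleton_iff.1 (Kc_le t hbK)
  have hP := FitCores.isPGroup_piCoreOf hp (Kc t)
  have hzb : zpowers b ≤ piCoreOf {p} (Kc t) := by rwa [zpowers_le]
  have hpt : p ∣ Nat.card (Kc t) := by
    refine FitCores.dvd_card_of_ne_bot hp (hP.to_le hzb) ?_ (hzb.trans (piCoreOf_le _ _))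
    rwa [Ne, zpowers_eq_bot]
  have hp2 : p ≠ 2 := by
    rintro rfl
    exact not_two_dvd (odd_Kc t) hpt
  have hpF : p ∣ Nat.card (fittingOf (Kc t)) := by
    refine FitCores.dvd_card_of_ne_bot hp (hP.to_le hzb) ?_
      (hzb.trans (FitCores.piCoreOf_singleton_le_fittingOf hp _))
    rwa [Ne, zpowers_eq_bot]
  have hbKu : b ∈ Kc u := (mem_Kc_iff h.sub hu).2 ⟨hbu, odd_orderOf_of_mem (odd_Kc t) hbK⟩
  set U := piCoreOf {p} (Kc u) with hU
  have hUp : IsPGroup p U := FitCores.isPGroup_piCoreOf hp _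
  have hKuU : Kc u ≤ normalizer (U : Set G) := le_normalizer_piCoreOf _ _
  have hCuU : centralizer ({u} : Set G) ≤ normalizer (U : Set G) :=
    (normalizer_Kc_le u).trans (normalizer_le_normalizer_piCoreOf _ _)
  have htU : t ∈ normalizer (U : Set G) := hCuU (mem_centralizer_singleton_iff.2 htu)
  have h1 := Lib.ThompsonPQ.thompson_p_times_q p (zpowers b) (zpowers t) U
    (hP.to_le hzb) ?_ hUp ?_ ?_ ?_ ?_
  · rwa [zpowers_le_centralizer_iff] at h1
  · rw [h.inv.card_zpowers]
    exact (Nat.coprime_primes Nat.prime_two hp).2 (Ne.symm hp2)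
  · rw [centralizer_zpowers, zpowers_le, mem_centralizer_singleton_iff]
    exact hbt
  · rw [zpowers_le]; exact hKuU hbKu
  · rw [zpowers_le]; exact htU
  · rw [centralizer_zpowers, centralizer_zpowers]
    refine le_centralizer_of_pi h hs hu hbF hb1 hbu inf_le_right
      (inf_le_left.trans ((piCoreOf_le _ _).trans (Kc_le u))) ?_ ?_ ?_
    · exact odd_of_le (inf_le_left.trans (piCoreOf_le _ _)) (odd_Kc u)
    · apply mem_normalizer_of_conj
      rintro y ⟨hy1, hy2⟩
      refine ⟨conj_mem_of_mem_normalizer htU hy1, ?_⟩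
      show t * y * t⁻¹ ∈ centralizer ({b} : Set G)
      have hy2' : y * b = b * y := mem_centralizer_singleton_iff.1 hy2
      rw [mem_centralizer_singleton_iff]
      have e1 : t⁻¹ * b = b * t⁻¹ := by
        rw [inv_mul_eq_iff_eq_mul, ← mul_assoc, ← hbt]; group
      calc t * y * t⁻¹ * b = t * y * (t⁻¹ * b) := by group
        _ = t * (y * b) * t⁻¹ := by rw [e1]; group
        _ = (t * b) * y * t⁻¹ := by rw [hy2']; group
        _ = b * (t * y * t⁻¹) := by rw [← hbt]; group
    · intro q hq hd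
      have hqp : q = p := by
        have h2 : IsPGroup p (U ⊓ centralizer ({b} : Set G) : Subgroup G) := hUp.to_le inf_le_left
        obtain ⟨n, hn⟩ := IsPGroup.iff_card.1 h2
        rw [hn] at hd
        exact (Nat.prime_dvd_prime_iff_eq hq hp).1 (hq.dvd_of_dvd_pow hd)
      rw [hqp]
      exact hpF

/-- (S2) -/
theorem core_or (h : ZHyp G t) (hs : LocSol G) {u : G} (hu : IsInv u) (htu : t * u = u * t)
    (hne : t ≠ u) : Alt (Kc t) u := by
  intro p hp
  rcases (piCoreOf {p} (Kc t) ⊓ centralizer ({u} : Set G)).bot_or_exists_ne_one with hbot |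
    ⟨b, hb, hb1⟩
  · exact Or.inr hbot
  left
  have hbu : (b : G) * u = u * b := mem_centralizer_singleton_iff.1 hb.2
  have h1 := core_le_of_mem h hs hu htu hp hb.1 hb1 hbu
  obtain ⟨k, hk1, hk2⟩ := exists_rot h.sub h.one hu h.inv htu.symm hne.symm
  intro y hy
  have hyt : y * t = t * y := mem_centralizer_singleton_iff.1 (Kc_le t (piCoreOf_le _ _ hy))
  have h2 := core_conj (h.of_inv hu) {p} k
  rw [hk1] at h2
  rw [h2] at hy
  obtain ⟨z, hz, hzy⟩ := hy
  have hzy' : k * z * k⁻¹ = y := hzy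
  have hzt : z * t = t * z := mem_centralizer_singleton_iff.1 (h1 hz)
  have h3 : y * (u * t) = (u * t) * y := by
    rw [← hk2, ← hzy']
    calc k * z * k⁻¹ * (k * t * k⁻¹) = k * (z * t) * k⁻¹ := by group
      _ = k * (t * z) * k⁻¹ := by rw [hzt]
      _ = _ := by group
  rw [mem_centralizer_singleton_iff]
  have h4 : u = (u * t) * t := by rw [mul_assoc, h.inv.1, mul_one]
  calc y * u = (y * (u * t)) * t := by rw [mul_assoc, ← h4]
    _ = (u * t) * (y * t) := by rw [h3, mul_assoc]
    _ = (u * t) * t * y := by rw [hyt, ← mul_assoc]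
    _ = u * y := by rw [← h4]

theorem mem_normalizer_Kc {u : G} (htu : t * u = u * t) : u ∈ normalizer (Kc t : Set G) :=
  normalizer_Kc_le t (mem_centralizer_singleton_iff.2 htu.symm)

theorem comm_le (h : ZHyp G t) (hs : LocSol G) {u : G} (hu : IsInv u) (htu : t * u = u * t)
    (hne : t ≠ u) : ⁅Kc t, zpowers u⁆ ≤ fittingOf (Kc t) :=
  comm_le_fitting (odd_Kc t) (h.ft _ (odd_Kc t)) hu (mem_normalizer_Kc htu)
    (core_or h hs hu htu hne)

theorem comm_inf (h : ZHyp G t) (hs : LocSol G) {u : G} (hu : IsInv u) (htu : t * u = u * t)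
    (hne : t ≠ u) : ⁅Kc t, zpowers u⁆ ⊓ centralizer ({u} : Set G) = ⊥ :=
  comm_inf_centralizer (odd_Kc t) (h.ft _ (odd_Kc t)) hu (mem_normalizer_Kc htu)
    (core_or h hs hu htu hne)

theorem isCoprime_core_comm (h : ZHyp G t) {f : G} (hf : f ∈ fittingOf (Kc t)) {q : ℕ}
    (hq : q.Prime) (hd : q ∣ Nat.card (⁅oc (centralizer ({f} : Set G)), zpowers t⁆ : Subgroup G))
    (hd' : q ∣ Nat.card (fittingOf (Kc t))) : False := by
  have hft : f * t = t * f := mem_centralizer_singleton_iff.1 (Kc_le t (FitAux.fittingOf_le _ hf))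
  have htB : t ∈ centralizer ({f} : Set G) := mem_centralizer_singleton_iff.2 hft.symm
  have htO : t ∈ normalizer (oc (centralizer ({f} : Set G)) : Set G) := le_normalizer_oc _ htB
  have hq2 : q ≠ 2 := by
    rintro rfl
    exact not_two_dvd (odd_of_le (FitAux.fittingOf_le _) (odd_Kc t)) hd'
  refine not_dvd_comm (odd_oc _) (h.ft _ (odd_oc _)) h.inv htO (alt_oc h hf) hq ?_ hd
  refine le_trans ?_ (h.core_le (ZHyp.fitting_Kc_le t hf) hq hq2
    (card_fittingOf_centralizer_dvd h hd'))
  exact FitCores.le_core_of_isPGroup hq ((piCoreOf_le _ _).trans (oc_le _))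
    ((le_normalizer_oc _).trans (normalizer_le_normalizer_piCoreOf _ _))
    (FitCores.isPGroup_piCoreOf hq _)

/-- `[O(C(f)), t]` contains no element centralised by the involution `u`. -/
theorem comm_oc_inf (h : ZHyp G t) (hs : LocSol G) {u f : G} (hu : IsInv u)
    (htu : t * u = u * t) (hne : t ≠ u) (hf : f ∈ fittingOf (Kc t)) :
    ⁅oc (centralizer ({f} : Set G)), zpowers t⁆ ⊓ centralizer ({u} : Set G) = ⊥ := by
  set R : Subgroup G := ⁅oc (centralizer ({f} : Set G)), zpowers t⁆ with hR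
  have hft : f * t = t * f := mem_centralizer_singleton_iff.1 (Kc_le t (FitAux.fittingOf_le _ hf))
  have htB : t ∈ centralizer ({f} : Set G) := mem_centralizer_singleton_iff.2 hft.symm
  have htO : t ∈ normalizer (oc (centralizer ({f} : Set G)) : Set G) := le_normalizer_oc _ htB
  have hRo : Odd (Nat.card R) := odd_of_le (TypeB.Basic.comm_le htO) (odd_oc _)
  have htR : t ∈ normalizer (R : Set G) :=
    Lib.CoprimeCommutator.right_le_normalizer_commutator _ _ (mem_zpowers t)
  have hRt : R ⊓ centralizer ({t} : Set G) = ⊥ :=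
    comm_inf_centralizer (odd_oc _) (h.ft _ (odd_oc _)) h.inv htO (alt_oc h hf)
  rw [eq_bot_iff]
  rintro y ⟨hyR, hyu⟩
  rw [mem_bot]
  by_contra hy1
  have hyu' : y * u = u * y := mem_centralizer_singleton_iff.1 hyu
  have hyo : Odd (orderOf y) := odd_orderOf_of_mem hRo hyR
  have hyK : y ∈ Kc u := (mem_Kc_iff h.sub hu).2 ⟨hyu', hyo⟩
  have hinv : t * y * t⁻¹ = y⁻¹ := inverts_of_fixedPointFree h.inv htR hRt hyR
  have h2 : y * y ∈ ⁅Kc u, zpowers t⁆ := by
    have h3 := commutator_mem_commutator hyK (mem_zpowers t)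
    rw [commutatorElement_def] at h3
    have h4 : y * t * y⁻¹ * t⁻¹ = y * y := by
      have h5 : t * y⁻¹ * t⁻¹ = y := by
        have := congrArg (·⁻¹) hinv
        simp only [mul_inv_rev, inv_inv] at this
        rw [← mul_assoc] at this
        exact this
      calc y * t * y⁻¹ * t⁻¹ = y * (t * y⁻¹ * t⁻¹) := by group
        _ = y * y := by rw [h5]
    rwa [h4] at h3
  have h3 : y * y ∈ fittingOf (Kc u) :=
    comm_le (h.of_inv hu) hs h.inv htu.symm hne.symm h2
  have h4 : y ∈ fittingOf (Kc u) := by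
    obtain ⟨m, hm⟩ := hyo
    have h5 : y = (y * y) ^ (m + 1) := by
      rw [← pow_two, ← pow_mul]
      have h6 : 2 * (m + 1) = orderOf y + 1 := by omega
      rw [h6, pow_add, pow_orderOf_eq_one, one_mul, pow_one]
    rw [h5]
    exact (fittingOf (Kc u)).pow_mem h3 _
  have h5 : orderOf y ≠ 1 := fun h' => hy1 (orderOf_eq_one_iff.1 h')
  have hq : (orderOf y).minFac.Prime := Nat.minFac_prime h5
  have h6 : ∀ X : Subgroup G, y ∈ X → (orderOf y).minFac ∣ Nat.card X := by
    intro X hX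
    refine (Nat.minFac_dvd _).trans ?_
    have := orderOf_dvd_natCard (⟨y, hX⟩ : X)
    rwa [Subgroup.orderOf_mk] at this
  refine isCoprime_core_comm h hf hq (h6 _ hyR) ?_
  rw [← card_fitting_eq h hu]
  exact h6 _ h4

/-- `C(f)` for `f ∈ F(K_t)` of prime order -/
theorem centralizer_le_of_prime (h : ZHyp G t) (hs : LocSol G) {u₀ : G} (hu₀ : IsInv u₀)
    (htu₀ : t * u₀ = u₀ * t) (hne₀ : t ≠ u₀) {p : ℕ} (hp : p.Prime) {f : G}
    (hf : f ∈ fittingOf (Kc t)) (hfp : orderOf f = p) :
    centralizer ({f} : Set G) ≤ centralizer ({t} : Set G) := by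
  have : Fact (Nat.Prime 2) := ⟨Nat.prime_two⟩
  have hf1 : f ≠ 1 := by
    rintro rfl
    rw [orderOf_one] at hfp
    exact hp.one_lt.ne hfp
  set B := centralizer ({f} : Set G) with hB
  have hsol : Group.IsSolvable B := isSolvable_centralizer hs hf1
  have hft : f * t = t * f := mem_centralizer_singleton_iff.1 (Kc_le t (FitAux.fittingOf_le _ hf))
  have htB : t ∈ B := mem_centralizer_singleton_iff.2 hft.symm
  have hfP : f ∈ piCoreOf {p} (Kc t) := by
    have h1 : zpowers f ≤ piCoreOf {p} (Kc t) := FitCores.le_core_of_le_fittingOf hp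
      (by rwa [zpowers_le]) (FitCores.isPGroup_zpowers hp hfp)
    exact h1 (mem_zpowers f)
  -- noncentral involutions act as `±1` on `f`
  have hact : ∀ u : G, IsInv u → t * u = u * t → t ≠ u → u * f * u⁻¹ = f ∨ u * f * u⁻¹ = f⁻¹ := by
    intro u hu htu hne
    rcases core_or h hs hu htu hne p hp with h1 | h1
    · left
      have h2 : f * u = u * f := mem_centralizer_singleton_iff.1 (h1 hfP)
      rw [← h2]; group
    · right
      exact inverts_of_fixedPointFree hu (normalizer_le_normalizer_piCoreOf _ _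
        (mem_normalizer_Kc htu)) h1 hfP
  have hactB : ∀ s : G, (s * f * s⁻¹ = f ∨ s * f * s⁻¹ = f⁻¹) → s ∈ normalizer (B : Set G) := by
    intro s hs'
    apply mem_normalizer_of_conj
    intro b hb
    have hbf : b * f = f * b := mem_centralizer_singleton_iff.1 hb
    have hbf' : b * f⁻¹ = f⁻¹ * b := by
      rw [eq_inv_mul_iff_mul_eq, ← mul_assoc, ← hbf]; group
    rw [mem_centralizer_singleton_iff]
    rcases hs' with h1 | h1
    · have h2 : s⁻¹ * f * s = f := by
        have : f = s⁻¹ * (s * f * s⁻¹) * s := by group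
        conv_rhs => rw [this, h1]
      calc s * b * s⁻¹ * f = s * (b * (s⁻¹ * f * s)) * s⁻¹ := by group
        _ = s * (f * b) * s⁻¹ := by rw [h2, hbf]
        _ = (s * f * s⁻¹) * (s * b * s⁻¹) := by group
        _ = f * (s * b * s⁻¹) := by rw [h1]
    · have h2 : s⁻¹ * f * s = f⁻¹ := by
        have h3 : s * f⁻¹ * s⁻¹ = f := by
          have := congrArg (·⁻¹) h1
          simp only [mul_inv_rev, inv_inv] at this
          rw [← mul_assoc] at this
          exact this
        have : f⁻¹ = s⁻¹ * (s * f⁻¹ * s⁻¹) * s := by group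
        rw [this, h3]
      have h3 : s * f⁻¹ * s⁻¹ = f := by
        rw [← h2]; group
      calc s * b * s⁻¹ * f = s * (b * (s⁻¹ * f * s)) * s⁻¹ := by group
        _ = s * (f⁻¹ * b) * s⁻¹ := by rw [h2, hbf']
        _ = (s * f⁻¹ * s⁻¹) * (s * b * s⁻¹) := by group
        _ = f * (s * b * s⁻¹) := by rw [h3]
  -- `[O(B), t] = 1`
  set O := oc B with hO
  have hOB : O ≤ B := oc_le _
  have hOn : normalizer (B : Set G) ≤ normalizer (O : Set G) := normalizer_le_oc B
  have htO : t ∈ normalizer (O : Set G) := le_normalizer_oc _ htB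
  set R : Subgroup G := ⁅O, zpowers t⁆ with hR
  have hRo : Odd (Nat.card R) := odd_of_le (TypeB.Basic.comm_le htO) (odd_oc _)
  have htR : t ∈ normalizer (R : Set G) :=
    Lib.CoprimeCommutator.right_le_normalizer_commutator _ _ (mem_zpowers t)
  have hRt : R ⊓ centralizer ({t} : Set G) = ⊥ :=
    comm_inf_centralizer (odd_oc _) (h.ft _ (odd_oc _)) h.inv htO (alt_oc h hf)
  have hi : IsInv (t * u₀) := h.inv.mul hu₀ htu₀ hne₀
  have htu' : t * (t * u₀) = (t * u₀) * t := by rw [mul_assoc, ← htu₀]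
  have hne' : t ≠ t * u₀ := by
    intro h'
    apply hu₀.2
    have h1 : t * 1 = t * u₀ := by rw [mul_one]; exact h'
    exact (mul_left_cancel h1).symm
  have huR : u₀ ∈ normalizer (R : Set G) := by
    have huO : u₀ ∈ normalizer (O : Set G) := hOn (hactB u₀ (hact u₀ hu₀ htu₀ hne₀))
    apply mem_normalizer_of_conj
    intro y hy
    have h1 : R ≤ R.comap (MulAut.conj u₀).toMonoidHom := by
      apply comm_le_of h.inv
      intro o ho
      show u₀ * (o * t * o⁻¹ * t⁻¹) * u₀⁻¹ ∈ R
      have e1 : u₀ * t * u₀⁻¹ = t := by rw [← htu₀]; group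
      have e2 : u₀ * (o * t * o⁻¹ * t⁻¹) * u₀⁻¹ =
          (u₀ * o * u₀⁻¹) * t * (u₀ * o * u₀⁻¹)⁻¹ * t⁻¹ := by
        have e3 : u₀ * t⁻¹ * u₀⁻¹ = t⁻¹ := by
          have := congrArg (·⁻¹) e1
          simp only [mul_inv_rev, inv_inv] at this
          rw [← mul_assoc] at this
          exact this
        calc u₀ * (o * t * o⁻¹ * t⁻¹) * u₀⁻¹
            = (u₀ * o * u₀⁻¹) * (u₀ * t * u₀⁻¹) * (u₀ * o * u₀⁻¹)⁻¹ * (u₀ * t⁻¹ * u₀⁻¹) := by
              group
          _ = _ := by rw [e1, e3]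
      rw [e2]
      have e4 := commutator_mem_commutator (conj_mem_of_mem_normalizer huO ho) (mem_zpowers t)
      rwa [commutatorElement_def] at e4
    exact h1 hy
  have hRbot : R = ⊥ := by
    have h1 : R ≤ ⊥ := le_of_four hRo h.inv hu₀ htu₀ htR huR hRt.le
      (comm_oc_inf h hs hu₀ htu₀ hne₀ hf).le (comm_oc_inf h hs hi htu' hne' hf).le
    exact le_bot_iff.1 h1
  have hOt : O ≤ centralizer ({t} : Set G) := by
    rw [← comm_eq_bot_iff]
    exact hRbot
  -- a Sylow 2-subgroup of `B` centralising `t`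
  obtain ⟨S, hS⟩ := exists_sylow_centralizer h.one h.inv
  have hSB : (S : Subgroup G) ≤ normalizer (B : Set G) := by
    -- `S` is generated by its involutions
    obtain ⟨R₀, hR₀, hSR⟩ := h.sub S S.2
    have hinvS : ∀ s ∈ (S : Subgroup G), s ∉ R₀ → s ∈ normalizer (B : Set G) := by
      intro s hs1 hs2
      have hs3 : s ≠ 1 := fun h' => hs2 (h' ▸ R₀.one_mem)
      by_cases hst : t = s
      · rw [← hst]
        exact le_normalizer htB
      · have hsi : IsInv s := ⟨(hSR s hs1 hs2).1, hs3⟩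
        exact hactB s (hact s hsi (mem_centralizer_singleton_iff.1 (hS hs1)).symm hst)
    by_cases hall : (S : Subgroup G) ≤ R₀
    · -- impossible: `S` contains a four-group
      exfalso
      have : IsCyclic R₀ := hR₀
      have hcyc : IsCyclic (S : Subgroup G) := Subgroup.isCyclic_of_le hall
      have hV : IsKleinFour (fourGroup t u₀ h.inv.1 hu₀.1 htu₀) :=
        isKleinFour_of h.inv hu₀ htu₀ hne₀
      obtain ⟨T, hT, -⟩ := exists_sylow_ge h.one h.inv
        (isPGroup_fourGroup h.inv.1 hu₀.1 htu₀) (by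
          apply fourGroup_le
          · exact mem_centralizer_singleton_iff.2 rfl
          · exact mem_centralizer_singleton_iff.2 htu₀.symm)
      have hcT : IsCyclic (T : Subgroup G) := by
        exact isCyclic_of_surjective (Sylow.equiv S T) (Sylow.equiv S T).surjective
      exact IsKleinFour.not_isCyclic (G := fourGroup t u₀ h.inv.1 hu₀.1 htu₀)
        (Subgroup.isCyclic_of_le hT)
    · obtain ⟨x, hxS, hxR⟩ := Set.not_subset.1 hall
      intro s hs1
      by_cases hs2 : s ∈ R₀
      · have h3 : s * x ∉ R₀ := fun h' => hxR (by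
          have := R₀.mul_mem (R₀.inv_mem hs2) h'
          rwa [← mul_assoc, inv_mul_cancel, one_mul] at this)
        have h4 := hinvS _ ((S : Subgroup G).mul_mem hs1 hxS) h3
        have h5 := hinvS x hxS hxR
        have h6 := mul_mem h4 (inv_mem h5)
        rwa [mul_assoc, mul_inv_cancel, mul_one] at h6
      · exact hinvS s hs1 hs2
  obtain ⟨P, hP⟩ : ∃ P : Sylow 2 B, ∀ x ∈ (P : Subgroup B), (x : G) * t = t * x := by
    have hp1 : IsPGroup 2 ((S : Subgroup G).subgroupOf B) := by
      have h1 : IsPGroup 2 ((S : Subgroup G) ⊓ B : Subgroup G) := S.2.to_inf_left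
      exact (S.2.comap_subtype : IsPGroup 2 ((S : Subgroup G).comap B.subtype))
    obtain ⟨P, hP⟩ := hp1.exists_le_sylow
    refine ⟨P, ?_⟩
    -- compare orders
    have hSN : (S : Subgroup G) ≤ normalizer (B : Set G) := hSB
    have hPN : (P : Subgroup B).map B.subtype ≤ normalizer (B : Set G) :=
      (map_subtype_le _).trans le_normalizer
    have hPp : IsPGroup 2 ((P : Subgroup B).map B.subtype) := P.2.map _
    obtain ⟨c, hc, hcP⟩ := exists_conj_mem S _ _ hSN hPN hPp
    have hle : ((P : Subgroup B).map B.subtype).map (MulAut.conj c).toMonoidHom ≤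
        ((S : Subgroup G).subgroupOf B).map B.subtype := by
      rintro _ ⟨y, hy, rfl⟩
      rw [subgroupOf_map_subtype]
      exact ⟨hcP y hy, conj_mem_of_mem_normalizer hc (map_subtype_le _ hy)⟩
    have hcard : Nat.card (P : Subgroup B) ≤ Nat.card ((S : Subgroup G).subgroupOf B) := by
      have h1 := Subgroup.card_le_of_le hle
      rw [card_map_of_injective (MulAut.conj c).injective,
        card_map_of_injective B.subtype_injective,
        card_map_of_injective B.subtype_injective] at h1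
      exact h1
    have heq : (S : Subgroup G).subgroupOf B = P := Subgroup.eq_of_le_of_card_ge hP hcard
    intro x hx
    rw [← heq, mem_subgroupOf] at hx
    exact mem_centralizer_singleton_iff.1 (hS hx)
  have hsub : SubDihedral B := subDihedral_of_injective B.subtype B.subtype_injective h.sub
  have htBi : IsInv (⟨t, htB⟩ : B) :=
    ⟨Subtype.ext h.inv.1, fun h' => h.inv.2 (congrArg Subtype.val h')⟩
  have hO' : ∀ y ∈ oddCore B, y * (⟨t, htB⟩ : B) = ⟨t, htB⟩ * y := by
    intro y hy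
    apply Subtype.ext
    have hy' : (y : G) ∈ oc B := (mk_mem_oddCore_iff y.2).1 hy
    exact mem_centralizer_singleton_iff.1 (hOt hy')
  have hP' : ∀ x ∈ (P : Subgroup B), x * (⟨t, htB⟩ : B) = ⟨t, htB⟩ * x := by
    intro x hx
    exact Subtype.ext (hP x hx)
  rcases central_or_fused h.ft hsub hsol htBi hO' P hP' with h1 | ⟨u, k, hu1, hu2, hu3, hk1, hk2⟩
  · intro g hg
    rw [mem_centralizer_singleton_iff]
    exact congrArg Subtype.val (h1 ⟨g, hg⟩)
  · exfalso
    refine not_good h hs (u := (u : G)) (x := f) ⟨?_, ?_, ?_, hf, hf1, ?_, (k : G), ?_, ?_, ?_⟩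
    · exact ⟨congrArg Subtype.val hu1.1, fun h' => hu1.2 (Subtype.ext h')⟩
    · exact congrArg Subtype.val hu2
    · intro h'; exact hu3 (Subtype.ext h')
    · exact (mem_centralizer_singleton_iff.1 u.2).symm
    · exact mem_centralizer_singleton_iff.1 k.2
    · exact congrArg Subtype.val hk1
    · exact congrArg Subtype.val hk2

/-- (S4) `C(f) ≤ C(t)` for `1 ≠ f ∈ F(K_t)` -/
theorem centralizer_le (h : ZHyp G t) (hs : LocSol G) {u₀ : G} (hu₀ : IsInv u₀)
    (htu₀ : t * u₀ = u₀ * t) (hne₀ : t ≠ u₀) {f : G}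
    (hf : f ∈ fittingOf (Kc t)) (hf1 : f ≠ 1) :
    centralizer ({f} : Set G) ≤ centralizer ({t} : Set G) := by
  have h1 : orderOf f ≠ 1 := fun h => hf1 (orderOf_eq_one_iff.1 h)
  have hp : (orderOf f).minFac.Prime := Nat.minFac_prime h1
  have hy : orderOf (f ^ (orderOf f / (orderOf f).minFac)) = (orderOf f).minFac :=
    orderOf_pow_orderOf_div (orderOf_pos f).ne' (Nat.minFac_dvd _)
  refine le_trans ?_ (centralizer_le_of_prime h hs hu₀ htu₀ hne₀ hp
    ((fittingOf (Kc t)).pow_mem hf _) hy)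
  intro g hg
  have hgf : Commute g f := mem_centralizer_singleton_iff.1 hg
  rw [mem_centralizer_singleton_iff]
  exact (hgf.pow_right _).eq

end Cfsg.Agent.Classification.GWSolvable.Local
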