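import Mathlib
import Cfsg.Agent.Classification.GWSolvable.Local

/-!
# Type Z with solvable local subgroups: the case `|S| = 4`

`S = {1, t, u, t u}` is a Sylow 2-subgroup of `C(t)`, `F₀ = [K_t, u]`.
The properties of `F₀` which are needed for the character theoretic fixed point lemma (L1*).
-/

set_option autoImplicit false

namespace Cfsg.Agent.Classification.GWSolvable.Four

open Subgroup Cfsg
open Cfsg.Agent.Classification.TypeB.Basic Cfsg.Agent.Classification.TypeB.Core
open Cfsg.Agent.OddOrderLocal Cfsg.Agent.OddOrderLocal.PiCoreOf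
open Cfsg.Agent.Classification.DihedralCentral Cfsg.Agent.Classification.TransferSign
open Cfsg.Agent.Classification.DihReduction Cfsg.Agent.Classification.DihStructure
open Cfsg.Agent.Classification.DihMinimal Cfsg.Agent.Classification.GWDefs
open Cfsg.Agent.Classification.TypeZ.Bender
open Cfsg.Agent.Classification.GWSolvable.Core Cfsg.Agent.Classification.GWSolvable.Rot
open Cfsg.Agent.Classification.GWSolvable.Local
open Cfsg.Agent.TwoFusion.DihedralFusion

universe u

variable {G : Type u} [Group G] [Finite G] {t : G}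

/-- `C(t) = K_t S` -/
theorem le_sup (hG : SubDihedral G) (ht : IsInv t) (S : Sylow 2 G)
    (hS : (S : Subgroup G) ≤ centralizer ({t} : Set G)) :
    centralizer ({t} : Set G) ≤ Kc t ⊔ S := by
  have : Fact (Nat.Prime 2) := ⟨Nat.prime_two⟩
  set C := centralizer ({t} : Set G) with hC
  obtain ⟨N, hN, hNo, k, hk⟩ := exists_of_oddClosed (oddClosed_centralizer hG ht.2 ht.1)
  have h1 : N.map C.subtype ≤ Kc t := by
    apply le_oc (map_subtype_le _)
    · intro g hg
      apply mem_normalizer_of_conj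
      rintro _ ⟨n, hn, rfl⟩
      exact ⟨⟨g, hg⟩ * n * ⟨g, hg⟩⁻¹, hN.conj_mem n hn _, rfl⟩
    · rw [card_map_of_injective (subtype_injective _)]
      exact hNo
  let S' : Sylow 2 C := S.subtype hS
  have hcard : Nat.card C = Nat.card N * 2 ^ k := by
    rw [← N.card_mul_index, hk]
  have hS' : Nat.card (S' : Subgroup C) = 2 ^ k := by
    rw [S'.card_eq_multiplicity]
    congr 1
    have h2 : ¬ 2 ∣ Nat.card N := not_two_dvd hNo
    rw [hcard, Nat.factorization_mul (Nat.card_pos).ne' (by positivity),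
      Finsupp.add_apply, Nat.factorization_eq_zero_of_not_dvd h2, zero_add,
      Nat.Prime.factorization_pow Nat.prime_two, Finsupp.single_eq_same]
  have h2 : IsComplement' N (S' : Subgroup C) := by
    apply isComplement'_of_coprime
    · rw [hS', hcard]
    · rw [hS']
      exact Nat.Coprime.pow_right _ (Nat.coprime_two_right.2 hNo)
  have h3 := h2.sup_eq_top
  intro c hc
  have h4 : (⟨c, hc⟩ : C) ∈ N ⊔ (S' : Subgroup C) := by rw [h3]; exact mem_top _
  rw [← SetLike.mem_coe, Subgroup.normal_mul N (S' : Subgroup C)] at h4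
  obtain ⟨a, ha, b, hb, hab⟩ := h4
  have h5 : (a : G) * (b : G) = c := congrArg Subtype.val hab
  rw [← h5]
  refine mul_mem_sup (h1 ⟨a, ha, rfl⟩) ?_
  have : b ∈ (S.subtype hS : Subgroup C) := hb
  rw [Sylow.coe_subtype, mem_subgroupOf] at this
  exact this

section

variable {u : G} {S : Sylow 2 G}

/-- `S = {1, t, u, t u}` -/
theorem mem_iff (ht : IsInv t) (hu : IsInv u) (htu : t * u = u * t) (hne : t ≠ u)
    (h4 : Nat.card (S : Subgroup G) = 4) (htS : t ∈ (S : Subgroup G))
    (huS : u ∈ (S : Subgroup G)) (s : G) :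
    s ∈ (S : Subgroup G) ↔ s = 1 ∨ s = t ∨ s = u ∨ s = t * u := by
  have h1 : fourGroup t u ht.1 hu.1 htu ≤ (S : Subgroup G) := fourGroup_le ht.1 hu.1 htu htS huS
  have h2 : IsKleinFour (fourGroup t u ht.1 hu.1 htu) := isKleinFour_of ht hu htu hne
  have h3 : fourGroup t u ht.1 hu.1 htu = (S : Subgroup G) :=
    Subgroup.eq_of_le_of_card_ge h1 (by rw [h2.card_four, h4])
  rw [← h3, mem_fourGroup]

/-- elements of `K_t` commuting with `u` centralise `S` -/
theorem mem_centralizer_of_commute (ht : IsInv t) (hu : IsInv u) (htu : t * u = u * t)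
    (hne : t ≠ u) (h4 : Nat.card (S : Subgroup G) = 4) (htS : t ∈ (S : Subgroup G))
    (huS : u ∈ (S : Subgroup G)) {k : G} (hkt : k * t = t * k) (hku : k * u = u * k) :
    k ∈ centralizer (((S : Subgroup G)) : Set G) := by
  rw [mem_centralizer_iff]
  intro s hs
  rcases (mem_iff ht hu htu hne h4 htS huS s).1 hs with rfl | rfl | rfl | rfl
  · rw [one_mul, mul_one]
  · exact hkt.symm
  · exact hku.symm
  · rw [mul_assoc, ← hku, ← mul_assoc, ← hkt, mul_assoc]

/-- `K_t ≤ [K_t, u] C_{K_t}(S)` -/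
theorem le_comm_sup (ht : IsInv t) (hu : IsInv u) (htu : t * u = u * t)
    (hne : t ≠ u) (h4 : Nat.card (S : Subgroup G) = 4) (htS : t ∈ (S : Subgroup G))
    (huS : u ∈ (S : Subgroup G)) :
    Kc t ≤ ⁅Kc t, zpowers u⁆ ⊔ (Kc t ⊓ centralizer ((S : Subgroup G) : Set G)) := by
  refine le_of_split (odd_Kc t) hu (mem_normalizer_Kc htu) le_sup_left ?_
  rintro k ⟨hk, hku⟩
  refine (le_sup_right : _ ≤ ⁅Kc t, zpowers u⁆ ⊔ (Kc t ⊓ centralizer ((S : Subgroup G) : Set G)))
    ⟨hk, ?_⟩
  exact mem_centralizer_of_commute ht hu htu hne h4 htS huS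
    (mem_centralizer_singleton_iff.1 (Kc_le t hk)) (mem_centralizer_singleton_iff.1 hku)

variable (h : ZHyp G t) (hs : LocSol G) (hSt : (S : Subgroup G) ≤ centralizer ({t} : Set G))
  (h4 : Nat.card (S : Subgroup G) = 4) (htS : t ∈ (S : Subgroup G)) (huS : u ∈ (S : Subgroup G))
  (hu : IsInv u) (htu : t * u = u * t) (hne : t ≠ u)

include h hs hu htu hne in
theorem inverts {x : G} (hx : x ∈ ⁅Kc t, zpowers u⁆) : u * x * u⁻¹ = x⁻¹ := by
  refine inverts_of_fixedPointFree (K := ⁅Kc t, zpowers u⁆) hu ?_ ?_ hx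
  · exact Lib.CoprimeCommutator.right_le_normalizer_commutator _ _ (mem_zpowers u)
  · exact comm_inf h hs hu htu hne

include h hs h4 htS huS hu htu hne in
/-- the involutions `≠ t` of `S` invert `[K_t, u]` -/
theorem inverts' {w : G} (hw : w ∈ (S : Subgroup G)) (hw1 : w ≠ 1) (hwt : w ≠ t) {x : G}
    (hx : x ∈ ⁅Kc t, zpowers u⁆) : w * x * w⁻¹ = x⁻¹ := by
  have hxt : x * t = t * x := mem_centralizer_singleton_iff.1
    (Kc_le t (TypeB.Basic.comm_le (mem_normalizer_Kc htu) hx))
  have h1 := inverts h hs hu htu hne hx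
  rcases (mem_iff h.inv hu htu hne h4 htS huS w).1 hw with rfl | rfl | rfl | rfl
  · exact absurd rfl hw1
  · exact absurd rfl hwt
  · exact h1
  · rw [mul_inv_rev]
    calc t * u * x * (u⁻¹ * t⁻¹) = t * (u * x * u⁻¹) * t⁻¹ := by group
      _ = t * x⁻¹ * t⁻¹ := by rw [h1]
      _ = x⁻¹ := by
        have h2 : t * x⁻¹ = x⁻¹ * t := ((show Commute x t from hxt).inv_left).eq.symm
        rw [h2]; group

include h hSt h4 htS huS hu htu hne in
theorem le_normalizer : centralizer ({t} : Set G) ≤ normalizer ((⁅Kc t, zpowers u⁆ : Subgroup G) : Set G) := by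
  refine (le_sup h.sub h.inv S hSt).trans (sup_le ?_ ?_)
  · exact Lib.CoprimeCommutator.left_le_normalizer_commutator _ _
  · intro s hs
    have h1 : u ∈ normalizer ((⁅Kc t, zpowers u⁆ : Subgroup G) : Set G) :=
      Lib.CoprimeCommutator.right_le_normalizer_commutator _ _ (mem_zpowers u)
    have h2 : t ∈ normalizer ((⁅Kc t, zpowers u⁆ : Subgroup G) : Set G) := by
      apply mem_normalizer_of_conj
      intro x hx
      have hxt : x * t = t * x := mem_centralizer_singleton_iff.1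
        (Kc_le t (TypeB.Basic.comm_le (mem_normalizer_Kc htu) hx))
      rw [← hxt, mul_assoc, mul_inv_cancel, mul_one]
      exact hx
    rcases (mem_iff h.inv hu htu hne h4 htS huS s).1 hs with rfl | rfl | rfl | rfl
    · exact one_mem _
    · exact h2
    · exact h1
    · exact mul_mem h2 h1

include h hs hSt h4 htS huS hu htu hne in
/-- `t` is the only involution of `C(x)`, `1 ≠ x ∈ [K_t, u]` -/
theorem eq_of_commute {x : G} (hx : x ∈ ⁅Kc t, zpowers u⁆) (hx1 : x ≠ 1) {w : G} (hw : IsInv w)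
    (hwx : w * x = x * w) : w = t := by
  have : Fact (Nat.Prime 2) := ⟨Nat.prime_two⟩
  have hxF := comm_le h hs hu htu hne hx
  have h1 : w ∈ centralizer ({t} : Set G) :=
    centralizer_le h hs hu htu hne hxF hx1 (mem_centralizer_singleton_iff.2 hwx)
  obtain ⟨c, hc, hcw⟩ := exists_conj_mem S (centralizer ({t} : Set G)) (zpowers w) hSt
    (by rwa [zpowers_le]) hw.isPGroup
  have h2 := hcw w (mem_zpowers w)
  have hct : c * t = t * c := mem_centralizer_singleton_iff.1 hc
  by_contra hwt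
  have h3 : c * w * c⁻¹ ≠ t := by
    intro h3
    apply hwt
    calc w = c⁻¹ * (c * w * c⁻¹) * c := by group
      _ = c⁻¹ * (t * c) := by rw [h3]; group
      _ = t := by rw [← hct]; group
  have hx' : c * x * c⁻¹ ∈ ⁅Kc t, zpowers u⁆ :=
    conj_mem_of_mem_normalizer (le_normalizer h hSt h4 htS huS hu htu hne hc) hx
  have h5 := inverts' h hs h4 htS huS hu htu hne h2 (hw.conj c).2 h3 hx'
  have h6 : c * w * c⁻¹ * (c * x * c⁻¹) * (c * w * c⁻¹)⁻¹ = c * x * c⁻¹ := by
    calc c * w * c⁻¹ * (c * x * c⁻¹) * (c * w * c⁻¹)⁻¹ = c * (w * x) * w⁻¹ * c⁻¹ := by group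
      _ = _ := by rw [hwx]; group
  rw [h6] at h5
  have h7 : x * x = 1 := by
    have h8 : (c * x * c⁻¹) * (c * x * c⁻¹) = 1 := by
      nth_rewrite 1 [h5]
      rw [inv_mul_cancel]
    calc x * x = c⁻¹ * ((c * x * c⁻¹) * (c * x * c⁻¹)) * c := by group
      _ = 1 := by rw [h8]; group
  exact hx1 (eq_one_of_sq (odd_Kc t) (TypeB.Basic.comm_le (mem_normalizer_Kc htu) hx) h7)

include h hs hSt h4 htS huS hu htu hne in
/-- if `1 ≠ x ∈ [K_t, u]` and `g x g⁻¹ ∈ C(t)`, then `g ∈ C(t)` -/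
theorem commute_of_conj {x : G} (hx : x ∈ ⁅Kc t, zpowers u⁆) (hx1 : x ≠ 1) {g : G}
    (hg : g * x * g⁻¹ * t = t * (g * x * g⁻¹)) : g * t = t * g := by
  have h1 : g⁻¹ * t * g = t := by
    apply eq_of_commute h hs hSt h4 htS huS hu htu hne hx hx1
    · simpa using h.inv.conj g⁻¹
    · calc g⁻¹ * t * g * x = g⁻¹ * (t * (g * x * g⁻¹)) * g := by group
        _ = g⁻¹ * (g * x * g⁻¹ * t) * g := by rw [hg]
        _ = x * (g⁻¹ * t * g) := by group
  calc g * t = g * (g⁻¹ * t * g) := by rw [h1]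
    _ = t * g := by group

include h hs hSt h4 htS huS hu htu hne in
/-- `[K_t, u]` is strongly closed in `K_t` -/
theorem closed {x : G} (hx : x ∈ ⁅Kc t, zpowers u⁆) {g : G} (hg : g * x * g⁻¹ ∈ Kc t) :
    g * x * g⁻¹ ∈ ⁅Kc t, zpowers u⁆ := by
  by_cases hx1 : x = 1
  · rw [hx1, mul_one, mul_inv_cancel]; exact one_mem _
  have h1 := commute_of_conj h hs hSt h4 htS huS hu htu hne hx hx1
    (mem_centralizer_singleton_iff.1 (Kc_le t hg))
  exact conj_mem_of_mem_normalizer (le_normalizer h hSt h4 htS huS hu htu hne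
    (mem_centralizer_singleton_iff.2 h1)) hx

include h hs hSt h4 htS huS hu htu hne in
/-- `|G : C(t)|` is prime to `|[K_t, u]|` -/
theorem coprime_index : Nat.Coprime (centralizer ({t} : Set G)).index
    (Nat.card (⁅Kc t, zpowers u⁆ : Subgroup G)) := by
  apply Nat.Coprime.symm
  rw [Nat.coprime_iff_gcd_eq_one]
  by_contra hgcd
  obtain ⟨r, hr, hrd⟩ := Nat.exists_prime_and_dvd hgcd
  have hr1 := hrd.trans (Nat.gcd_dvd_left _ _)
  have hr2 := hrd.trans (Nat.gcd_dvd_right _ _)
  have : Fact r.Prime := ⟨hr⟩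
  set F := (⁅Kc t, zpowers u⁆ : Subgroup G) with hF
  -- a Sylow `r`-subgroup of `C(t)`
  obtain ⟨R'⟩ : Nonempty (Sylow r (centralizer ({t} : Set G))) := inferInstance
  set R : Subgroup G := (R' : Subgroup (centralizer ({t} : Set G))).map
    (centralizer ({t} : Set G)).subtype with hR
  have hRp : IsPGroup r R := R'.2.map _
  have hRC : R ≤ centralizer ({t} : Set G) := map_subtype_le _
  have hFC : F ≤ centralizer ({t} : Set G) :=
    (TypeB.Basic.comm_le (mem_normalizer_Kc htu)).trans (Kc_le t)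
  have hCF := le_normalizer h hSt h4 htS huS hu htu hne
  -- `R ∩ F ≠ 1`
  obtain ⟨x, hxF, hxr⟩ := FitCores.exists_mem_orderOf hr hr1
  have hx1 : x ≠ 1 := fun hx => hr.one_lt.ne (by rw [← hxr, hx, orderOf_one])
  obtain ⟨y, hyF, hyR, hy1⟩ : ∃ y, y ∈ F ∧ y ∈ R ∧ y ≠ 1 := by
    have hz : IsPGroup r (zpowers (⟨x, hFC hxF⟩ : centralizer ({t} : Set G))) :=
      FitCores.isPGroup_zpowers hr (by rw [Subgroup.orderOf_mk]; exact hxr)
    obtain ⟨c, -, hc⟩ := exists_conj_mem R' ⊤ _ le_top le_top hz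
    refine ⟨c * x * (c : G)⁻¹, conj_mem_of_mem_normalizer (hCF c.2) hxF,
      ⟨_, hc _ (mem_zpowers _), rfl⟩, ?_⟩
    intro hc1
    apply hx1
    calc x = (c : G)⁻¹ * (c * x * (c : G)⁻¹) * c := by group
      _ = 1 := by rw [hc1]; group
  have hnR : normalizer (R : Set G) ≤ centralizer ({t} : Set G) := by
    intro g hg
    have h1 : g * y * g⁻¹ ∈ R := conj_mem_of_mem_normalizer hg hyR
    exact mem_centralizer_singleton_iff.2 (commute_of_conj h hs hSt h4 htS huS hu htu hne hyF hy1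
      (mem_centralizer_singleton_iff.1 (hRC h1)))
  -- `R` is a Sylow `r`-subgroup of `G`
  obtain ⟨P, hP⟩ := hRp.exists_le_sylow
  have hmax : ∀ Q : Subgroup G, IsPGroup r Q → R ≤ Q → Q ≤ centralizer ({t} : Set G) → Q ≤ R := by
    intro Q hQ hRQ hQC
    have h1 : (R' : Subgroup (centralizer ({t} : Set G))) ≤
        Q.subgroupOf (centralizer ({t} : Set G)) := by
      intro z hz
      exact mem_subgroupOf.2 (hRQ ⟨z, hz, rfl⟩)
    have h2 := R'.3 (Q := Q.subgroupOf (centralizer ({t} : Set G))) hQ.comap_subtype h1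
    intro q hq
    have h3 : (⟨q, hQC hq⟩ : centralizer ({t} : Set G)) ∈
        (R' : Subgroup (centralizer ({t} : Set G))) := by
      show _ ∈ (R' : Subgroup (centralizer ({t} : Set G)))
      rw [← h2]
      exact mem_subgroupOf.2 hq
    exact ⟨_, h3, rfl⟩
  have hPR : (P : Subgroup G) ≤ R := by
    apply le_of_normalizer_le hr P.2 hRp (hP.trans Subgroup.le_normalizer)
    apply hmax _ (P.2.to_le inf_le_left) (le_inf hP Subgroup.le_normalizer)
    exact inf_le_right.trans hnR
  have h5 : ¬ r ∣ (P : Subgroup G).index := P.not_dvd_index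
  apply h5
  exact hr2.trans (Subgroup.index_dvd_of_le (hPR.trans hRC))

end

end Cfsg.Agent.Classification.GWSolvable.Four
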