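import Mathlib
import Cfsg.Agent.Classification.GWSolvable.Five
import Cfsg.Agent.OddOrderLocal.Equivariance

/-!
# Type Z of the Gorenstein–Walter theorem for `N`-groups, step (S6)

If `|S| ≥ 8`, every involution `u ≠ t` of `C(t)` acts on `K_t = O(C(t))` without nontrivial fixed
points.
-/

set_option autoImplicit false

namespace Cfsg.Agent.Classification.GWSolvable.Eight

open Subgroup Cfsg
open Cfsg.Agent.Classification.TypeB.Basic Cfsg.Agent.Classification.TypeB.Core
open Cfsg.Agent.OddOrderLocal Cfsg.Agent.OddOrderLocal.PiCoreOf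
open Cfsg.Agent.Classification.DihedralCentral Cfsg.Agent.Classification.TransferSign
open Cfsg.Agent.Classification.DihReduction Cfsg.Agent.Classification.DihStructure
open Cfsg.Agent.Classification.DihMinimal Cfsg.Agent.Classification.GWDefs
open Cfsg.Agent.Classification.TypeZ.Bender
open Cfsg.Agent.Classification.GWSolvable.Five Cfsg.Agent.Classification.GWSolvable.Core

universe u

variable {G : Type u} [Group G] [Finite G]

namespace LocHyp

theorem core_map (L : LocHyp G) {t g : G} (ht : IsInv t) (p : ℕ) :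
    piCoreOf {p} (Kc (g * t * g⁻¹)) = (piCoreOf {p} (Kc t)).map (MulAut.conj g).toMonoidHom := by
  rw [← conj_Kc (L.z t ht).sub ht, Equivariance.piCoreOf_map]

theorem conj_mem_core (L : LocHyp G) {t g x : G} (ht : IsInv t) {p : ℕ}
    (hx : x ∈ piCoreOf {p} (Kc t)) : g * x * g⁻¹ ∈ piCoreOf {p} (Kc (g * t * g⁻¹)) := by
  rw [LocHyp.core_map L ht]
  exact ⟨x, hx, rfl⟩

theorem normalizes_core {t x : G} (hx : x * t = t * x) (p : ℕ) :
    x ∈ normalizer (piCoreOf {p} (Kc t) : Set G) :=
  normalizer_le_normalizer_piCoreOf _ _ (normalizer_Kc_le t (mem_centralizer_singleton_iff.2 hx))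

theorem odd_core {t : G} (p : ℕ) : Odd (Nat.card (piCoreOf {p} (Kc t))) :=
  odd_of_le (piCoreOf_le _ _) (odd_Kc t)

/-- `F(K_t) ∩ F(K_u) = 1` -/
theorem fit_inf (L : LocHyp G) {t u f : G} (ht : IsInv t) (hu : IsInv u) (htu : t * u = u * t)
    (hne : t ≠ u) (hft : f ∈ fittingOf (Kc t)) (hfu : f ∈ fittingOf (Kc u)) : f = 1 := by
  by_contra hf1
  have hZ := L.z t ht
  have h1 : orderOf f ≠ 1 := fun h => hf1 (orderOf_eq_one_iff.1 h)
  obtain ⟨p, hp, hpf⟩ := Nat.exists_prime_and_dvd h1
  set y := f ^ (orderOf f / p) with hy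
  have hyo : orderOf y = p := orderOf_pow_orderOf_div (orderOf_pos f).ne' hpf
  have hy1 : y ≠ 1 := by
    intro h
    rw [h, orderOf_one] at hyo
    exact hp.one_lt.ne hyo
  have hyt : y ∈ fittingOf (Kc t) := (fittingOf (Kc t)).pow_mem hft _
  have hyu : y ∈ fittingOf (Kc u) := (fittingOf (Kc u)).pow_mem hfu _
  have hyp : zpowers y ≤ piCoreOf {p} (Kc t) :=
    FitCores.le_core_of_le_fittingOf hp (by rwa [zpowers_le]) (FitCores.isPGroup_zpowers hp hyo)
  rw [zpowers_le] at hyp
  have hyu' : y * u = u * y :=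
    mem_centralizer_singleton_iff.1 (Kc_le u (FitAux.fittingOf_le _ hyu))
  have hF : fittingOf (Kc t) ≤ centralizer ({u} : Set G) := by
    rw [FitCores.fittingOf_le_iff]
    intro q hq
    by_cases hqp : q = p
    · subst hqp
      rcases L.core_or t u ht hu htu hne q hq with h | h
      · exact h
      · exfalso
        have h2 : y ∈ piCoreOf {q} (Kc t) ⊓ centralizer ({u} : Set G) :=
          ⟨hyp, mem_centralizer_singleton_iff.2 hyu'⟩
        rw [h, mem_bot] at h2
        exact hy1 h2
    · intro z hz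
      apply L.centralizer_le u hu y hyu hy1
      rw [mem_centralizer_singleton_iff]
      exact (mem_centralizer_iff.1 (FitCores.core_le_centralizer_core hq hp hqp (Kc t) hz) y
        hyp).symm
  have hK : Kc t ≤ centralizer ({u} : Set G) := by
    rw [← zpowers_le_centralizer_iff]
    refine FitCores.le_centralizer_of_centralizes_fitting ?_ (hZ.ft _ (odd_Kc t))
      (coprime_of_odd (odd_Kc t) hu) ?_
    · rw [zpowers_le]
      exact normalizer_Kc_le t (mem_centralizer_singleton_iff.2 htu.symm)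
    · rwa [zpowers_le_centralizer_iff]
  have h2 := hZ.core_eq_bot hu hne.symm hK
  have h3 := FitAux.fittingOf_le _ hft
  rw [h2, mem_bot] at h3
  exact hf1 h3

/-- Two involutions with the same signs on all `O_p(K_t)` have the same fixed points on `K_t`. -/
theorem fixed_eq (L : LocHyp G) {t u v : G} (ht : IsInv t) (hu : IsInv u) (hv : IsInv v)
    (htu : t * u = u * t) (htv : t * v = v * t) (hne : t ≠ u) (hne' : t ≠ v)
    (h2 : IsPGroup 2 (zpowers (u * v)))
    (hs : ∀ p : ℕ, p.Prime → (piCoreOf {p} (Kc t) ≤ centralizer ({u} : Set G) ↔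
      piCoreOf {p} (Kc t) ≤ centralizer ({v} : Set G))) :
    Kc t ⊓ centralizer ({u} : Set G) = Kc t ⊓ centralizer ({v} : Set G) := by
  have := Fact.mk Nat.prime_two
  have hZ := L.z t ht
  have ha : u * v * t = t * (u * v) := by
    rw [mul_assoc, ← htv, ← mul_assoc, ← htu, mul_assoc]
  have hK : zpowers (u * v) ≤ centralizer (Kc t : Set G) := by
    refine FitCores.le_centralizer_of_centralizes_fitting ?_ (hZ.ft _ (odd_Kc t)) ?_ ?_
    · rw [zpowers_le]
      exact normalizer_Kc_le t (mem_centralizer_singleton_iff.2 ha)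
    · obtain ⟨k, hk⟩ := IsPGroup.iff_card.1 h2
      rw [hk]
      exact Nat.Coprime.pow_left k (Nat.coprime_two_left.2 (odd_Kc t))
    · rw [zpowers_le_centralizer_iff, FitCores.fittingOf_le_iff]
      intro p hp y hy
      rw [mem_centralizer_singleton_iff]
      rcases L.core_or t u ht hu htu hne p hp with h | h
      · have h3 := mem_centralizer_singleton_iff.1 (h hy)
        have h4 := mem_centralizer_singleton_iff.1 ((hs p hp).1 h hy)
        rw [← mul_assoc, h3, mul_assoc, h4, mul_assoc]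
      · rcases L.core_or t v ht hv htv hne' p hp with h' | h'
        · have h3 := mem_centralizer_singleton_iff.1 (((hs p hp).2 h') hy)
          have h4 := mem_centralizer_singleton_iff.1 (h' hy)
          rw [← mul_assoc, h3, mul_assoc, h4, mul_assoc]
        · have h3 : v * y * v⁻¹ = y⁻¹ := inverts_of_fixedPointFree hv
            (normalizes_core htv.symm p) h' hy
          have h4 : u * y * u⁻¹ = y⁻¹ := inverts_of_fixedPointFree hu
            (normalizes_core htu.symm p) h hy
          have h5 : u * v * y * (u * v)⁻¹ = y := by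
            calc u * v * y * (u * v)⁻¹ = u * (v * y * v⁻¹) * u⁻¹ := by group
              _ = (u * y * u⁻¹)⁻¹ := by rw [h3]; group
              _ = y := by rw [h4, inv_inv]
          rw [mul_inv_eq_iff_eq_mul] at h5
          exact h5.symm
  have hc : ∀ k ∈ Kc t, k * (u * v) = (u * v) * k := fun k hk =>
    mem_centralizer_iff.1 (hK (mem_zpowers (u * v))) k hk
  have huv : ∀ k ∈ Kc t, (k * u = u * k ↔ k * v = v * k) := by
    intro k hk
    have h3 := hc k hk
    constructor
    · intro h4
      have h5 : u * (k * v) = u * (v * k) := by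
        rw [← mul_assoc, ← h4, mul_assoc, h3, mul_assoc]
      exact mul_left_cancel h5
    · intro h4
      have h5 : (k * u) * v = (u * k) * v := by
        rw [mul_assoc, h3, mul_assoc, ← h4, ← mul_assoc]
      exact mul_right_cancel h5
  ext k
  constructor
  · rintro ⟨hk, hku⟩
    exact ⟨hk, mem_centralizer_singleton_iff.2 ((huv k hk).1 (mem_centralizer_singleton_iff.1 hku))⟩
  · rintro ⟨hk, hkv⟩
    exact ⟨hk, mem_centralizer_singleton_iff.2 ((huv k hk).2 (mem_centralizer_singleton_iff.1 hkv))⟩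

/-- In the dihedral group of order 8 the signs of `u` and `w` on `O_p(K_t)` are equal. -/
theorem not_mixed (L : LocHyp G) {t u w : G} (ht : IsInv t) (hu : IsInv u) (hw : IsInv w)
    (htu : t * u = u * t) (htw : t * w = w * t) (hne : t ≠ u) (hne' : t ≠ w)
    (hwu : w * u * w⁻¹ = t * u) {p : ℕ} (hp : p.Prime)
    (h1 : piCoreOf {p} (Kc t) ≤ centralizer ({u} : Set G))
    (h2 : piCoreOf {p} (Kc t) ⊓ centralizer ({w} : Set G) = ⊥) :
    piCoreOf {p} (Kc t) = ⊥ := by
  by_contra hP
  have hZ := L.z t ht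
  have hG := hZ.sub
  obtain ⟨x, hx, hxp⟩ := FitCores.exists_mem_orderOf hp
    (FitCores.dvd_card_of_ne_bot hp (FitCores.isPGroup_piCoreOf hp (Kc t)) hP le_rfl)
  obtain ⟨k, hk1, hk2⟩ := Rot.exists_rot hG hZ.one ht hu htu hne
  have hx1 : x ≠ 1 := by
    intro h
    rw [h, orderOf_one] at hxp
    exact hp.one_lt.ne hxp
  have htui : IsInv (t * u) := ht.mul hu htu hne
  have huu := hu.1
  have huw' : t * (t * u) = (t * u) * t := by rw [mul_assoc, ← htu]
  -- `a = x^k`, `b = a^w`
  set a := k * x * k⁻¹ with ha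
  have haP : a ∈ piCoreOf {p} (Kc u) := by
    rw [← hk1]; exact LocHyp.conj_mem_core L ht hx
  have hau : a * u = u * a := mem_centralizer_singleton_iff.1 (Kc_le u (piCoreOf_le _ _ haP))
  have hxu : x * u = u * x := mem_centralizer_singleton_iff.1 (h1 hx)
  have hatu : a * (t * u) = (t * u) * a := by
    rw [← hk2, ha]
    calc k * x * k⁻¹ * (k * u * k⁻¹) = k * (x * u) * k⁻¹ := by group
      _ = k * (u * x) * k⁻¹ := by rw [hxu]
      _ = _ := by group
  have hat : a * t = t * a := by
    have h3 : t = (t * u) * u := by rw [mul_assoc, huu, mul_one]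
    calc a * t = a * ((t * u) * u) := by rw [← h3]
      _ = (a * (t * u)) * u := by group
      _ = (t * u) * (a * u) := by rw [hatu]; group
      _ = (t * u) * (u * a) := by rw [hau]
      _ = ((t * u) * u) * a := by group
      _ = t * a := by rw [← h3]
  set b := w * a * w⁻¹ with hb
  have hbP : b ∈ piCoreOf {p} (Kc (t * u)) := by
    rw [← hwu]; exact LocHyp.conj_mem_core L hu haP
  have hbtu : b * (t * u) = (t * u) * b :=
    mem_centralizer_singleton_iff.1 (Kc_le _ (piCoreOf_le _ _ hbP))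
  have hbt : b * t = t * b := by
    rw [hb]
    have h3 : w⁻¹ * t = t * w⁻¹ := by rw [hw.inv_eq, htw]
    calc w * a * w⁻¹ * t = w * a * (w⁻¹ * t) := by group
      _ = w * (a * t) * w⁻¹ := by rw [h3]; group
      _ = (w * t) * a * w⁻¹ := by rw [hat]; group
      _ = t * (w * a * w⁻¹) := by rw [← htw]; group
  have hbu : b * u = u * b := by
    have h3 : u = t * (t * u) := by rw [← mul_assoc, ht.1, one_mul]
    calc b * u = b * (t * (t * u)) := by rw [← h3]
      _ = (b * t) * (t * u) := by group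
      _ = t * (b * (t * u)) := by rw [hbt]; group
      _ = t * ((t * u) * b) := by rw [hbtu]
      _ = (t * (t * u)) * b := by group
      _ = u * b := by rw [← h3]
  -- `a` and `b` commute
  have hutu : u * (t * u) = (t * u) * u := by rw [← mul_assoc, ← htu]
  have hutu' : u ≠ t * u := by
    intro h
    exact ht.2 (mul_eq_right.1 h.symm)
  have hinf : ∀ z : G, z ∈ piCoreOf {p} (Kc u) → z ∈ piCoreOf {p} (Kc (t * u)) → z = 1 := by
    intro z hz hz'
    exact LocHyp.fit_inf L hu htui hutu hutu'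
      (FitCores.piCoreOf_singleton_le_fittingOf hp _ hz)
      (FitCores.piCoreOf_singleton_le_fittingOf hp _ hz')
  have hab : a * b = b * a := by
    have h3 : a * b * a⁻¹ * b⁻¹ = 1 := by
      apply hinf
      · have h4 : a * b * a⁻¹ * b⁻¹ = a * (b * a⁻¹ * b⁻¹) := by group
        rw [h4]
        exact mul_mem haP (conj_mem_of_mem_normalizer (normalizes_core hbu p) (inv_mem haP))
      · exact mul_mem (conj_mem_of_mem_normalizer (normalizes_core hatu p) hbP) (inv_mem hbP)
    have h4 : a * b = (a * b * a⁻¹ * b⁻¹) * (b * a) := by group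
    rw [h4, h3, one_mul]
  have hap : orderOf a = p := by
    rw [← hxp]
    exact orderOf_injective (MulAut.conj k).toMonoidHom (MulAut.conj k).injective x
  have hbp : orderOf b = p := by
    rw [← hap]
    exact orderOf_injective (MulAut.conj w).toMonoidHom (MulAut.conj w).injective a
  have hy1 : a * b ≠ 1 := by
    intro h
    have h3 : a = b⁻¹ := mul_eq_one_iff_eq_inv.1 h
    have h4 : a = 1 := hinf a haP (by rw [h3]; exact inv_mem hbP)
    rw [h4, orderOf_one] at hap
    exact hp.one_lt.ne hap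
  have := Fact.mk hp
  have hyp : orderOf (a * b) = p := by
    apply orderOf_eq_prime _ hy1
    rw [(show Commute a b from hab).mul_pow]
    nth_rewrite 1 [← hap]
    rw [pow_orderOf_eq_one, one_mul]
    rw [← hbp, pow_orderOf_eq_one]
  have hyt : a * b * t = t * (a * b) := by
    rw [mul_assoc, hbt, ← mul_assoc, hat, mul_assoc]
  have hpodd : Odd p := by
    rw [← hxp]
    exact odd_orderOf_of_mem (odd_core (t := t) p) hx
  have hyK : a * b ∈ Kc t := (mem_Kc_iff hG ht).2 ⟨hyt, by rw [hyp]; exact hpodd⟩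
  have hyw : a * b * w = w * (a * b) := by
    have h3 : w * b * w⁻¹ = a := by
      rw [hb]
      calc w * (w * a * w⁻¹) * w⁻¹ = (w * w) * a * (w * w)⁻¹ := by group
        _ = a := by rw [hw.1]; group
    have h4 : w * (a * b) * w⁻¹ = a * b := by
      calc w * (a * b) * w⁻¹ = (w * a * w⁻¹) * (w * b * w⁻¹) := by group
        _ = b * a := by rw [← hb, h3]
        _ = a * b := hab.symm
    rw [mul_inv_eq_iff_eq_mul] at h4
    exact h4.symm
  exact L.not_both ht hw htw hne' hp hyK hyw hyp (piCoreOf_le _ _ hx)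
    (inverts_of_fixedPointFree hw (normalizes_core htw.symm p) h2 hx) hxp

/-- A noncentral involution `w` of `S` not commuting with `u`. -/
theorem exists_w (hG : SubDihedral G) {S : Subgroup G} (hS : IsPGroup 2 S)
    (h8 : 8 ≤ Nat.card S) {t u : G} (ht : IsInv t) (hu : IsInv u) (htS : t ∈ S) (huS : u ∈ S)
    (hne : t ≠ u) (hc : ∀ s ∈ S, s * t = t * s) : ∃ w ∈ S, IsInv w ∧ w * u ≠ u * w := by
  obtain ⟨R, hR, hRS⟩ := hG S hS
  obtain ⟨r, hr, hr2⟩ : ∃ r ∈ S, r * r ≠ 1 := by
    by_contra hcon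
    push Not at hcon
    have := card_le_four hG S hcon
    omega
  have hrR : r ∈ R := by
    by_contra h
    exact hr2 (hRS r hr h).1
  have htR : t ∈ R := by
    by_contra h
    have h1 : t * r ∉ R := fun h2 => h (by
      have := R.mul_mem h2 (R.inv_mem hrR)
      rwa [mul_assoc, mul_inv_cancel, mul_one] at this)
    have h2 := (hRS (t * r) (S.mul_mem htS hr) h1).1
    apply hr2
    have h3 : t * r * (t * r) = (t * t) * (r * r) := by
      calc t * r * (t * r) = t * (r * t) * r := by group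
        _ = t * (t * r) * r := by rw [hc r hr]
        _ = _ := by group
    rw [h3, ht.1, one_mul] at h2
    exact h2
  have huR : u ∉ R := fun h => hne (eq_of_mem_cyclic hR ht hu htR h)
  have hwR : r * u ∉ R := fun h2 => huR (by
      have := R.mul_mem (R.inv_mem hrR) h2
      rwa [inv_mul_cancel_left] at this)
  have hw := (hRS (r * u) (S.mul_mem hr huS) hwR).1
  refine ⟨r * u, S.mul_mem hr huS, ⟨hw, fun h => hwR (h ▸ R.one_mem)⟩, ?_⟩
  intro h
  apply hr2
  have h1 : r = u * r * u := by
    rw [mul_assoc, hu.1, mul_one, ← mul_assoc] at h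
    exact h
  calc r * r = r * (u * r * u) := by rw [← h1]
    _ = r * u * (r * u) := by group
    _ = 1 := hw

/-- Conjugates of `u` in `S` have the same fixed points as `u`. -/
theorem le_normalizer (L : LocHyp G) {S : Subgroup G} (hS : IsPGroup 2 S) {t u : G} (ht : IsInv t)
    (hu : IsInv u) (huS : u ∈ S) (htu : t * u = u * t) (hne : t ≠ u)
    (hc : ∀ s ∈ S, s * t = t * s) :
    S ≤ normalizer ((Kc t ⊓ centralizer ({u} : Set G) : Subgroup G) : Set G) := by
  intro s hs
  have hst := hc s hs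
  set v := s * u * s⁻¹ with hv
  have hvS : v ∈ S := S.mul_mem (S.mul_mem hs huS) (S.inv_mem hs)
  have hvi : IsInv v := hu.conj s
  have htv : t * v = v * t := (hc v hvS).symm
  have htv' : t ≠ v := by
    intro h
    apply hne
    have h1 : u = s⁻¹ * v * s := by rw [hv]; group
    rw [h1, ← h, mul_assoc, ← hst]; group
  have h1 : Kc t ⊓ centralizer ({u} : Set G) = Kc t ⊓ centralizer ({v} : Set G) := by
    refine LocHyp.fixed_eq L ht hu hvi htu htv hne htv' (hS.to_le ?_) ?_
    · rw [zpowers_le]; exact S.mul_mem huS hvS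
    · intro p hp
      have hn := normalizes_core hst p
      constructor
      · intro h y hy
        have h2 : s⁻¹ * y * s ∈ piCoreOf {p} (Kc t) := by
          have := conj_mem_of_mem_normalizer (inv_mem hn) hy
          rwa [inv_inv] at this
        have h3 := mem_centralizer_singleton_iff.1 (h h2)
        rw [mem_centralizer_singleton_iff, hv]
        calc y * (s * u * s⁻¹) = s * (s⁻¹ * y * s * u) * s⁻¹ := by group
          _ = s * (u * (s⁻¹ * y * s)) * s⁻¹ := by rw [h3]
          _ = _ := by group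
      · intro h y hy
        have h2 : s * y * s⁻¹ ∈ piCoreOf {p} (Kc t) := conj_mem_of_mem_normalizer hn hy
        have h3 := mem_centralizer_singleton_iff.1 (h h2)
        rw [mem_centralizer_singleton_iff]
        rw [hv] at h3
        calc y * u = s⁻¹ * (s * y * s⁻¹ * (s * u * s⁻¹)) * s := by group
          _ = s⁻¹ * (s * u * s⁻¹ * (s * y * s⁻¹)) * s := by rw [h3]
          _ = _ := by group
  apply mem_normalizer_of_conj
  rintro x ⟨hxK, hxu⟩
  rw [h1]
  refine ⟨conj_mem_of_mem_normalizer (normalizer_Kc_le t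
    (mem_centralizer_singleton_iff.2 hst)) hxK, ?_⟩
  have hxu' := mem_centralizer_singleton_iff.1 hxu
  refine mem_centralizer_singleton_iff.2 ?_
  rw [hv]
  calc s * x * s⁻¹ * (s * u * s⁻¹) = s * (x * u) * s⁻¹ := by group
    _ = s * (u * x) * s⁻¹ := by rw [hxu']
    _ = _ := by group

theorem rot_mem_normalizer (hG : SubDihedral G) {t u k : G} (ht : IsInv t)
    (hu : IsInv u) (hk1 : k * t * k⁻¹ = u)
    (hk2 : k * u * k⁻¹ = t * u) :
    k ∈ normalizer ((Kc t ⊓ centralizer ({u} : Set G) : Subgroup G) : Set G) := by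
  apply mem_normalizer_of_conj
  rintro x ⟨hxK, hxu⟩
  have hxt := mem_centralizer_singleton_iff.1 (Kc_le t hxK)
  have hxu' := mem_centralizer_singleton_iff.1 hxu
  have h1 : (k * x * k⁻¹) * u = u * (k * x * k⁻¹) := by
    rw [← hk1]
    calc k * x * k⁻¹ * (k * t * k⁻¹) = k * (x * t) * k⁻¹ := by group
      _ = k * (t * x) * k⁻¹ := by rw [hxt]
      _ = _ := by group
  have h2 : (k * x * k⁻¹) * (t * u) = (t * u) * (k * x * k⁻¹) := by
    rw [← hk2]
    calc k * x * k⁻¹ * (k * u * k⁻¹) = k * (x * u) * k⁻¹ := by group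
      _ = k * (u * x) * k⁻¹ := by rw [hxu']
      _ = _ := by group
  have h3 : (k * x * k⁻¹) * t = t * (k * x * k⁻¹) := by
    have h4 : t = (t * u) * u := by rw [mul_assoc, hu.1, mul_one]
    calc (k * x * k⁻¹) * t = (k * x * k⁻¹) * ((t * u) * u) := by rw [← h4]
      _ = ((k * x * k⁻¹) * (t * u)) * u := by group
      _ = (t * u) * ((k * x * k⁻¹) * u) := by rw [h2]; group
      _ = (t * u) * (u * (k * x * k⁻¹)) := by rw [h1]
      _ = ((t * u) * u) * (k * x * k⁻¹) := by group
      _ = t * (k * x * k⁻¹) := by rw [← h4]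
  refine ⟨(mem_Kc_iff hG ht).2 ⟨h3, ?_⟩, mem_centralizer_singleton_iff.2 h1⟩
  have h4 : orderOf (k * x * k⁻¹) = orderOf x :=
    orderOf_injective (MulAut.conj k).toMonoidHom (MulAut.conj k).injective x
  rw [h4]
  exact odd_orderOf_of_mem (odd_Kc t) hxK

/-- **(S6)** -/
theorem inf_eq_bot_of_mem (L : LocHyp G) (S : Sylow 2 G) (h8 : 8 ≤ Nat.card (S : Subgroup G))
    {t u : G} (ht : IsInv t) (hu : IsInv u) (htS : t ∈ (S : Subgroup G))
    (huS : u ∈ (S : Subgroup G)) (hne : t ≠ u) (hc : ∀ s ∈ (S : Subgroup G), s * t = t * s) :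
    Kc t ⊓ centralizer ({u} : Set G) = ⊥ := by
  have := Fact.mk Nat.prime_two
  by_contra hW
  have hZ := L.z t ht
  have hG := hZ.sub
  have htu : t * u = u * t := (hc u huS).symm
  have hWo : Odd (Nat.card (Kc t ⊓ centralizer ({u} : Set G) : Subgroup G)) :=
    odd_of_le inf_le_left (odd_Kc t)
  set N := normalizer ((Kc t ⊓ centralizer ({u} : Set G) : Subgroup G) : Set G) with hN
  have hNs : Group.IsSolvable N := solvable_normalizer hZ.ft L.loc hWo hW
  have hNG : SubDihedral N := subDihedral_of_injective N.subtype N.subtype_injective hG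
  have hSN : (S : Subgroup G) ≤ N := LocHyp.le_normalizer L S.2 ht hu huS htu hne hc
  obtain ⟨k, hk1, hk2⟩ := Rot.exists_rot hG hZ.one ht hu htu hne
  have hkN : k ∈ N := rot_mem_normalizer hG ht hu hk1 hk2
  have hlift : ∀ {v : G} (hv : v ∈ N), IsInv v → IsInv (⟨v, hv⟩ : N) := fun hv h =>
    ⟨Subtype.ext h.1, fun h' => h.2 (congrArg Subtype.val h')⟩
  have htN := hSN htS
  have huN := hSN huS
  obtain ⟨V, hVn, hV, hVC, hVi, htV, huV⟩ := fused_klein hZ.ft hNG hNs (hlift htN ht)
    (hlift huN hu) (Subtype.ext htu) (fun h => hne (congrArg Subtype.val h))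
    (k := ⟨k, hkN⟩) (Subtype.ext hk1) (Subtype.ext hk2)
  -- `|S|` divides `24`
  have hSO : ∀ s : (S : Subgroup G), ((⟨s, hSN s.2⟩ : N) ∈ oddCore N) → s = 1 := by
    intro s hs
    rw [mk_mem_oddCore_iff] at hs
    have h1 := odd_orderOf_of_mem (odd_oc N) hs
    obtain ⟨m, hm⟩ := S.2 s
    have h2 : orderOf (s : G) ∣ 2 ^ m := orderOf_dvd_of_pow_eq_one (congrArg Subtype.val hm)
    have h3 : Nat.Coprime (orderOf (s : G)) (2 ^ m) := Nat.Coprime.pow_right m
      (Nat.coprime_two_right.2 h1)
    apply Subtype.ext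
    show (s : G) = 1
    rw [← orderOf_eq_one_iff, ← Nat.dvd_one, ← h3.gcd_eq_one]
    exact Nat.dvd_gcd dvd_rfl h2
  have hcard : Nat.card (S : Subgroup G) = 8 := by
    have h1 : Nat.card (S : Subgroup G) ∣ Nat.card (N ⧸ oddCore N) := by
      let f : (S : Subgroup G) →* N ⧸ oddCore N :=
        (QuotientGroup.mk' (oddCore N)).comp (Subgroup.inclusion hSN)
      apply Subgroup.card_dvd_of_injective f
      rw [injective_iff_map_eq_one]
      intro s hs
      apply hSO
      exact (QuotientGroup.eq_one_iff (N := oddCore N) _).1 hs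
    have h2 : Nat.card (N ⧸ oddCore N) ∣ 24 := by
      rw [← V.card_mul_index, hV.card_four]
      rcases hVi with h | h <;> rw [h] <;> norm_num
    obtain ⟨m, hm⟩ := IsPGroup.iff_card.1 S.2
    have h3 := h1.trans h2
    rw [hm] at h3 h8 ⊢
    have hm3 : m ≤ 3 := by
      by_contra hcon
      push Not at hcon
      have h4 : 2 ^ 4 ∣ 24 := (pow_dvd_pow 2 hcon).trans h3
      norm_num at h4
    interval_cases m <;> simp_all
  -- `w`
  obtain ⟨w, hwS, hw, hwu⟩ := exists_w hG S.2 h8 ht hu htS huS hne hc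
  have htw : t * w = w * t := (hc w hwS).symm
  have hne' : t ≠ w := by
    intro h
    apply hwu
    rw [← h, htu]
  have hwut : w * u * w⁻¹ = t * u := by
    set F := Cfsg.Agent.TwoFusion.DihedralFusion.fourGroup t u ht.1 hu.1 htu with hF
    have hFS : F ≤ (S : Subgroup G) :=
      Cfsg.Agent.TwoFusion.DihedralFusion.fourGroup_le _ _ _ htS huS
    have hF4 : Nat.card F = 4 := (Rot.isKleinFour_of ht hu htu hne).card_four
    have hidx : (F.subgroupOf (S : Subgroup G)).index = 2 := by
      have h1 := (F.subgroupOf (S : Subgroup G)).card_mul_index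
      rw [Nat.card_congr (subgroupOfEquivOfLe hFS).toEquiv, hF4, hcard] at h1
      omega
    have hn : (F.subgroupOf (S : Subgroup G)).Normal := Subgroup.normal_of_index_eq_two hidx
    have h1 : w * u * w⁻¹ ∈ F := by
      have h2 := hn.conj_mem ⟨u, huS⟩ (mem_subgroupOf.2
        (Cfsg.Agent.TwoFusion.DihedralFusion.right_mem_fourGroup _ _ _)) ⟨w, hwS⟩
      exact mem_subgroupOf.1 h2
    rcases (Cfsg.Agent.TwoFusion.DihedralFusion.mem_fourGroup (ha := ht.1) (hb := hu.1)
      (hab := htu)).1 h1 with h | h | h | h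
    · exact absurd h (hu.conj w).2
    · exfalso
      apply hne
      have h3 : u = w⁻¹ * (w * u * w⁻¹) * w := by group
      rw [h3, h, mul_assoc, htw]; group
    · exact absurd (mul_inv_eq_iff_eq_mul.1 h) hwu
    · exact h
  have hwut' : u * w * u⁻¹ = t * w := by
    have h1 : w * u = t * u * w := mul_inv_eq_iff_eq_mul.1 hwut
    have h2 : u * w = w * u * t := by
      have h3 : (w * u)⁻¹ = (t * u * w)⁻¹ := by rw [h1]
      rw [mul_inv_rev, mul_inv_rev, mul_inv_rev, hw.inv_eq, hu.inv_eq, ht.inv_eq] at h3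
      rw [h3, mul_assoc]
    rw [h2, hu.inv_eq]
    calc w * u * t * u = w * (u * t) * u := by group
      _ = w * (t * u) * u := by rw [htu]
      _ = w * t * (u * u) := by group
      _ = t * w := by rw [hu.1, mul_one, htw]
  have hs : ∀ p : ℕ, p.Prime → (piCoreOf {p} (Kc t) ≤ centralizer ({u} : Set G) ↔
      piCoreOf {p} (Kc t) ≤ centralizer ({w} : Set G)) := by
    intro p hp
    constructor
    · intro h
      rcases L.core_or t w ht hw htw hne' p hp with h' | h'
      · exact h'
      · rw [LocHyp.not_mixed L ht hu hw htu htw hne hne' hwut hp h h']; exact bot_le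
    · intro h
      rcases L.core_or t u ht hu htu hne p hp with h' | h'
      · exact h'
      · rw [LocHyp.not_mixed L ht hw hu htw htu hne' hne hwut' hp h h']; exact bot_le
  have hEq := LocHyp.fixed_eq L ht hu hw htu htw hne hne'
    (S.2.to_le (by rw [zpowers_le]; exact (S : Subgroup G).mul_mem huS hwS)) hs
  obtain ⟨k', hk1', hk2'⟩ := Rot.exists_rot hG hZ.one ht hw htw hne'
  have hkN' : k' ∈ N := by
    rw [hN, hEq]
    exact rot_mem_normalizer hG ht hw hk1' hk2'
  have hwN := hSN hwS
  obtain ⟨V', hVn', hV', -, -, htV', hwV'⟩ := fused_klein hZ.ft hNG hNs (hlift htN ht)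
    (hlift hwN hw) (Subtype.ext htw) (fun h => hne' (congrArg Subtype.val h))
    (k := ⟨k', hkN'⟩) (Subtype.ext hk1') (Subtype.ext hk2')
  have huV' : (QuotientGroup.mk (⟨u, huN⟩ : N) : N ⧸ oddCore N) ∈ V' := by
    have h1 := hVn'.conj_mem _ htV' (QuotientGroup.mk (⟨k, hkN⟩ : N))
    have h2 : (QuotientGroup.mk (⟨k, hkN⟩ : N) : N ⧸ oddCore N) *
        QuotientGroup.mk (⟨t, htN⟩ : N) * (QuotientGroup.mk (⟨k, hkN⟩ : N))⁻¹ =
        QuotientGroup.mk (⟨u, huN⟩ : N) := by
      rw [← QuotientGroup.mk_inv, ← QuotientGroup.mk_mul, ← QuotientGroup.mk_mul]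
      congr 1
      exact Subtype.ext hk1
    rwa [h2] at h1
  have hcomm := klein_comm hV' huV' hwV'
  apply hwu
  have h1 : (⟨w * u * (u * w)⁻¹, (S : Subgroup G).mul_mem ((S : Subgroup G).mul_mem hwS huS)
      ((S : Subgroup G).inv_mem ((S : Subgroup G).mul_mem huS hwS))⟩ : (S : Subgroup G)) = 1 := by
    apply hSO
    rw [← QuotientGroup.eq_one_iff]
    have h2 : (QuotientGroup.mk (⟨w, hwN⟩ : N) : N ⧸ oddCore N) * QuotientGroup.mk (⟨u, huN⟩ : N) *
        (QuotientGroup.mk (⟨u, huN⟩ : N) * QuotientGroup.mk (⟨w, hwN⟩ : N))⁻¹ = 1 := by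
      rw [hcomm, mul_inv_cancel]
    rw [← QuotientGroup.mk_mul, ← QuotientGroup.mk_mul, ← QuotientGroup.mk_inv,
      ← QuotientGroup.mk_mul] at h2
    exact h2
  exact mul_inv_eq_one.1 (congrArg Subtype.val h1)

/-- **(S6)** for all pairs of commuting involutions. -/
theorem inf_eq_bot (L : LocHyp G) (S₀ : Sylow 2 G) (h8 : 8 ≤ Nat.card (S₀ : Subgroup G))
    {t u : G} (ht : IsInv t) (hu : IsInv u) (htu : t * u = u * t) (hne : t ≠ u) :
    Kc t ⊓ centralizer ({u} : Set G) = ⊥ := by
  have := Fact.mk Nat.prime_two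
  set V := Cfsg.Agent.TwoFusion.DihedralFusion.fourGroup t u ht.1 hu.1 htu with hV
  have hVt : V ≤ centralizer ({t} : Set G) :=
    Cfsg.Agent.TwoFusion.DihedralFusion.fourGroup_le _ _ _
      (mem_centralizer_singleton_iff.2 rfl) (mem_centralizer_singleton_iff.2 htu.symm)
  obtain ⟨S, hVS, hSt⟩ := Rot.exists_sylow_ge (L.z t ht).one ht (Rot.isPGroup_fourGroup _ _ _) hVt
  have hcard : Nat.card (S : Subgroup G) = Nat.card (S₀ : Subgroup G) :=
    Nat.card_congr (Sylow.equiv S S₀).toEquiv
  exact LocHyp.inf_eq_bot_of_mem L S (hcard ▸ h8) ht hu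
    (hVS (Cfsg.Agent.TwoFusion.DihedralFusion.left_mem_fourGroup _ _ _))
    (hVS (Cfsg.Agent.TwoFusion.DihedralFusion.right_mem_fourGroup _ _ _)) hne
    (fun s hs => mem_centralizer_singleton_iff.1 (hSt hs))

end LocHyp

end Cfsg.Agent.Classification.GWSolvable.Eight
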